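import Mathlib
import Cfsg.Agent.Helper7.ChevMinus
import Cfsg.Agent.Helper7.ChevCharPA

set_option autoImplicit false

/-!
# S2441 (two `p`-blocks): shared definitions of the Chevalley side

`plusSet D w` : the positive roots `r` with `w r` positive (`w` a word in the fundamental reflections,
acting through `Tab.reflWord`).
`suppSet D J` : the positive roots whose coroot is supported on `J`.
The four hypotheses `InterHyp`, `LemmaAHyp`, `LemmaBHyp`, `AdjHyp` are the interfaces of the pieces
P1 (intersection formula) and P3 (root combinatorics).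
-/

namespace Cfsg.Agent.ChevBlk

open Cfsg Cfsg.Lie Matrix Cfsg.Agent.Helper7 Cfsg.Agent.Helper7.Chev

/-- The positive roots kept positive by the word. -/
def plusSet (D : ChevalleyDatum) (w : List ℕ) : ℕ → Prop :=
  fun r => D.nroots / 2 ≤ r ∧ r < D.nroots ∧ D.nroots / 2 ≤ (tabOf D).reflWord w r

/-- The positive roots whose coroot is supported on `J`. -/
def suppSet (D : ChevalleyDatum) (J : Set ℕ) : ℕ → Prop :=
  fun r => D.nroots / 2 ≤ r ∧ r < D.nroots ∧ ∀ i < D.rank, cr D r i ≠ 0 → i ∈ J

/-- The fundamental roots kept positive by the word. -/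
def plusSimple (D : ChevalleyDatum) (w : List ℕ) : Set ℕ :=
  {i | i < D.rank ∧ plusSet D w (D.simple i)}

/-- **P1** (intersection formula): every `x` of the group is `b n_w⁻¹ b'` with
`U ∩ xUx⁻¹ = b U_{plusSet w} b⁻¹`. -/
def InterHyp {D : ChevalleyDatum} (hG : Good2 D) (F : Type*) [Field F] : Prop :=
  ∀ x ∈ D.group F, ∃ b ∈ D.borelSubgroup F, ∃ w : List ℕ, (∀ i ∈ w, i < D.rank) ∧
    ∃ b' ∈ D.borelSubgroup F, x = b * (nWordGL hG w)⁻¹ * b' ∧ ClosedSet D (plusSet D w) ∧
      D.posUnipotent F ⊓ (D.posUnipotent F).map (MulAut.conj x).toMonoidHom =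
        (UgeS D F (plusSet D w) (D.nroots / 2)).map (MulAut.conj b).toMonoidHom

/-- **P3, Lemma A**: a word fixing pointwise the positive roots it keeps positive keeps positive exactly
the positive roots supported on the fundamental roots it keeps positive. -/
def LemmaAHyp (D : ChevalleyDatum) : Prop :=
  ∀ w : List ℕ, (∀ i ∈ w, i < D.rank) →
    (∀ r, plusSet D w r → (tabOf D).reflWord w r = r) →
    ∀ r, plusSet D w r ↔ suppSet D (plusSimple D w) r

/-- **P3, Lemma B** (combinatorial half): a fundamental reflection outside `J` keeps the roots supported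
on `J` positive, and maps such a root to a fundamental root only if the root is a fundamental root of
`J` orthogonal to the reflecting root. -/
def LemmaBHyp (D : ChevalleyDatum) : Prop :=
  ∀ (J : Set ℕ) (i k : ℕ), i < D.rank → i ∉ J → k < D.rank → ∀ r, suppSet D J r →
    D.nroots / 2 ≤ (tabOf D).refl (D.simple i) r ∧
    ((tabOf D).refl (D.simple i) r = D.simple k → k ∈ J ∧ D.cartan i (D.simple k) = 0)

/-- **P3, adjacency**: the Dynkin diagram is connected. -/
def AdjHyp (D : ChevalleyDatum) : Prop :=
  ∀ J : Set ℕ, (∃ j < D.rank, j ∈ J) → (∃ i < D.rank, i ∉ J) →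
    ∃ i < D.rank, i ∉ J ∧ ∃ j < D.rank, j ∈ J ∧ D.cartan i (D.simple j) ≠ 0

end Cfsg.Agent.ChevBlk
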