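import Mathlib
import Cfsg.Agent.Helper7.ChevT9
import Cfsg.Agent.Helper7.ChevGood2

set_option autoImplicit false

/-!
New table facts for the root combinatorics of the two-block theorem (S2441): the coroot coordinates
separate the roots, a strengthened descent (the reflection that lowers a positive root has a positive
pairing), and the symmetry of the vanishing of the Cartan integers of fundamental roots.
-/

namespace Cfsg.Agent.ChevBlk

open Cfsg Cfsg.Lie Cfsg.Agent.Helper7 Cfsg.Agent.Helper7.Chev

/-- The coroot coordinates separate the roots. -/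
def h2b_TInj (T : Tab) : Prop :=
  AllLt T.n (fun r => AllLt T.n (fun s => r ≠ s →
    (List.range T.l).any (fun i => decide (T.cr r i ≠ T.cr s i)) = true))

instance (T : Tab) : Decidable (h2b_TInj T) := by unfold h2b_TInj; infer_instance

/-- Every positive root is fundamental or is lowered, to a positive root, by the reflection in a
fundamental root of its support with which it has a positive pairing. -/
def h2b_TDesc (T : Tab) : Prop :=
  ∀ s < T.n, T.n / 2 ≤ s →
    (∃ i < T.l, T.simple i = s) ∨
    (∃ i < T.l, T.cr s i ≠ 0 ∧ 0 < T.pairing s (T.simple i) ∧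
      T.n / 2 ≤ T.refl (T.simple i) s ∧ T.refl (T.simple i) s < s)

instance (T : Tab) : Decidable (h2b_TDesc T) := by unfold h2b_TDesc; infer_instance

/-- Vanishing of the Cartan integers of two fundamental roots is symmetric. -/
def h2b_TSym (T : Tab) : Prop :=
  AllLt T.l (fun i => AllLt T.l (fun j =>
    T.cartan i (T.simple j) = 0 → T.cartan j (T.simple i) = 0))

instance (T : Tab) : Decidable (h2b_TSym T) := by unfold h2b_TSym; infer_instance

/-- The three new table facts together. -/
structure h2b_TA (T : Tab) : Prop where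
  inj : h2b_TInj T
  desc : h2b_TDesc T
  sym : h2b_TSym T

set_option maxRecDepth 1000000 in
set_option maxHeartbeats 0 in
theorem h2b_TInj_fast_G2 : h2b_TInj fastG2 := by decide +kernel

set_option maxRecDepth 1000000 in
set_option maxHeartbeats 0 in
theorem h2b_TDesc_fast_G2 : h2b_TDesc fastG2 := by decide +kernel

set_option maxRecDepth 1000000 in
set_option maxHeartbeats 0 in
theorem h2b_TSym_fast_G2 : h2b_TSym fastG2 := by decide +kernel

theorem h2b_TA_G2 : h2b_TA (tabOf chevG2) :=
  tab_G2 ▸ ⟨h2b_TInj_fast_G2, h2b_TDesc_fast_G2, h2b_TSym_fast_G2⟩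

set_option maxRecDepth 1000000 in
set_option maxHeartbeats 0 in
theorem h2b_TInj_fast_B2 : h2b_TInj fastB2 := by decide +kernel

set_option maxRecDepth 1000000 in
set_option maxHeartbeats 0 in
theorem h2b_TDesc_fast_B2 : h2b_TDesc fastB2 := by decide +kernel

set_option maxRecDepth 1000000 in
set_option maxHeartbeats 0 in
theorem h2b_TSym_fast_B2 : h2b_TSym fastB2 := by decide +kernel

theorem h2b_TA_B2 : h2b_TA (tabOf chevB2) :=
  tab_B2 ▸ ⟨h2b_TInj_fast_B2, h2b_TDesc_fast_B2, h2b_TSym_fast_B2⟩

set_option maxRecDepth 1000000 in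
set_option maxHeartbeats 0 in
theorem h2b_TInj_fast_D4 : h2b_TInj fastD4 := by decide +kernel

set_option maxRecDepth 1000000 in
set_option maxHeartbeats 0 in
theorem h2b_TDesc_fast_D4 : h2b_TDesc fastD4 := by decide +kernel

set_option maxRecDepth 1000000 in
set_option maxHeartbeats 0 in
theorem h2b_TSym_fast_D4 : h2b_TSym fastD4 := by decide +kernel

theorem h2b_TA_D4 : h2b_TA (tabOf chevD4) :=
  tab_D4 ▸ ⟨h2b_TInj_fast_D4, h2b_TDesc_fast_D4, h2b_TSym_fast_D4⟩

set_option maxRecDepth 1000000 in
set_option maxHeartbeats 0 in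
theorem h2b_TInj_fast_F4 : h2b_TInj fastF4 := by decide +kernel

set_option maxRecDepth 1000000 in
set_option maxHeartbeats 0 in
theorem h2b_TDesc_fast_F4 : h2b_TDesc fastF4 := by decide +kernel

set_option maxRecDepth 1000000 in
set_option maxHeartbeats 0 in
theorem h2b_TSym_fast_F4 : h2b_TSym fastF4 := by decide +kernel

theorem h2b_TA_F4 : h2b_TA (tabOf chevF4) :=
  tab_F4 ▸ ⟨h2b_TInj_fast_F4, h2b_TDesc_fast_F4, h2b_TSym_fast_F4⟩

set_option maxRecDepth 1000000 in
set_option maxHeartbeats 0 in
theorem h2b_TInj_fast_E6 : h2b_TInj fastE6 := by decide +kernel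

set_option maxRecDepth 1000000 in
set_option maxHeartbeats 0 in
theorem h2b_TDesc_fast_E6 : h2b_TDesc fastE6 := by decide +kernel

set_option maxRecDepth 1000000 in
set_option maxHeartbeats 0 in
theorem h2b_TSym_fast_E6 : h2b_TSym fastE6 := by decide +kernel

theorem h2b_TA_E6 : h2b_TA (tabOf chevE6) :=
  tab_E6 ▸ ⟨h2b_TInj_fast_E6, h2b_TDesc_fast_E6, h2b_TSym_fast_E6⟩

set_option maxRecDepth 1000000 in
set_option maxHeartbeats 0 in
theorem h2b_TInj_fast_E7 : h2b_TInj fastE7 := by decide +kernel

set_option maxRecDepth 1000000 in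
set_option maxHeartbeats 0 in
theorem h2b_TDesc_fast_E7 : h2b_TDesc fastE7 := by decide +kernel

set_option maxRecDepth 1000000 in
set_option maxHeartbeats 0 in
theorem h2b_TSym_fast_E7 : h2b_TSym fastE7 := by decide +kernel

theorem h2b_TA_E7 : h2b_TA (tabOf chevE7) :=
  tab_E7 ▸ ⟨h2b_TInj_fast_E7, h2b_TDesc_fast_E7, h2b_TSym_fast_E7⟩

set_option maxRecDepth 1000000 in
set_option maxHeartbeats 0 in
theorem h2b_TInj_fast_E8 : h2b_TInj fastE8 := by decide +kernel

set_option maxRecDepth 1000000 in
set_option maxHeartbeats 0 in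
theorem h2b_TDesc_fast_E8 : h2b_TDesc fastE8 := by decide +kernel

set_option maxRecDepth 1000000 in
set_option maxHeartbeats 0 in
theorem h2b_TSym_fast_E8 : h2b_TSym fastE8 := by decide +kernel

theorem h2b_TA_E8 : h2b_TA (tabOf chevE8) :=
  tab_E8 ▸ ⟨h2b_TInj_fast_E8, h2b_TDesc_fast_E8, h2b_TSym_fast_E8⟩

/-- The new table facts hold for each of the seven tabulated data. -/
theorem h2b_TA_of_mem (D : ChevalleyDatum)
    (hD : D ∈ [chevG2, chevB2, chevD4, chevF4, chevE6, chevE7, chevE8]) : h2b_TA (tabOf D) :=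
  chev_cases (p := fun D => h2b_TA (tabOf D)) D hD h2b_TA_G2 h2b_TA_B2 h2b_TA_D4 h2b_TA_F4
    h2b_TA_E6 h2b_TA_E7 h2b_TA_E8

end Cfsg.Agent.ChevBlk
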