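import Mathlib
import Cfsg.Agent.ChevBlk.H2_TabA
import Cfsg.Agent.Helper7.ChevWeyl

set_option autoImplicit false
set_option linter.unusedSectionVars false
set_option linter.unusedVariables false

/-!
Root combinatorics for the two-block theorem (S2441).

* Lemma A: if a Weyl group element (given by a word) fixes every positive root that it keeps positive,
  then the positive roots it keeps positive are exactly those supported on the set `J` of the fundamental
  roots it fixes, and it fixes all of these.
* Lemma B (combinatorial half): if the reflection in a fundamental root outside the support of a root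
  `r` maps `r` to a fundamental root, then `r` is that fundamental root and it is orthogonal to the
  reflecting root; and connectedness of the Dynkin diagram in the form needed.
-/

namespace Cfsg.Agent.ChevBlk

open Cfsg Cfsg.Lie Cfsg.Agent.Helper7 Cfsg.Agent.Helper7.Chev

variable {D : ChevalleyDatum}

/-! ### Coroot coordinate vectors and the linear action of reflections -/

/-- The coroot coordinate vector of a root. -/
def h2b_crv (D : ChevalleyDatum) (r : ℕ) : Fin D.rank → ℤ := fun j => cr D r j.val

/-- The reflection in the `i`-th fundamental root on coroot coordinates. -/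
def h2b_reflLin (D : ChevalleyDatum) (i : ℕ) : (Fin D.rank → ℤ) →ₗ[ℤ] (Fin D.rank → ℤ) where
  toFun v := fun j => v j -
    (if j.val = i then ∑ k : Fin D.rank, v k * D.cartan k.val (D.simple i) else 0)
  map_add' := by
    intro v w
    funext j
    simp only [Pi.add_apply]
    by_cases h : j.val = i
    · rw [if_pos h, if_pos h, if_pos h]
      simp only [add_mul, Finset.sum_add_distrib]
      ring
    · rw [if_neg h, if_neg h, if_neg h]
      ring
  map_smul' := by
    intro c v
    funext j
    simp only [Pi.smul_apply, smul_eq_mul, RingHom.id_apply]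
    by_cases h : j.val = i
    · rw [if_pos h, if_pos h]
      simp only [mul_assoc, ← Finset.mul_sum]
      ring
    · rw [if_neg h, if_neg h]
      ring

/-- The action of a word on coroot coordinates. -/
def h2b_wordLin (D : ChevalleyDatum) (w : List ℕ) : (Fin D.rank → ℤ) →ₗ[ℤ] (Fin D.rank → ℤ) :=
  w.foldr (fun i L => (h2b_reflLin D i).comp L) LinearMap.id

theorem h2b_crv_refl (hG : Good2 D) {i : ℕ} (hi : i < D.rank) {s : ℕ} (hs : s < D.nroots) :
    h2b_crv D ((tabOf D).refl (D.simple i) s) = h2b_reflLin D i (h2b_crv D s) := by
  funext j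
  change cr D ((tabOf D).refl (D.simple i) s) j.val =
    cr D s j.val - (if j.val = i then ∑ k : Fin D.rank, cr D s k.val * D.cartan k.val (D.simple i)
      else 0)
  rw [hG.cr_refl hi hs j.2, pairing_eq_sum]

theorem h2b_crv_reflWord (hG : Good2 D) {w : List ℕ} (hw : ∀ i ∈ w, i < D.rank) {s : ℕ}
    (hs : s < D.nroots) :
    h2b_crv D ((tabOf D).reflWord w s) = h2b_wordLin D w (h2b_crv D s) := by
  induction w with
  | nil => rfl
  | cons i w ih =>
    have hi : i < D.rank := hw i List.mem_cons_self
    have hw' : ∀ j ∈ w, j < D.rank := fun j hj => hw j (List.mem_cons_of_mem _ hj)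
    have hlt := reflWord_lt hG hw' hs
    have e2 : (tabOf D).reflWord (i :: w) s =
        (tabOf D).refl (D.simple i) ((tabOf D).reflWord w s) := rfl
    have e3 : h2b_wordLin D (i :: w) = (h2b_reflLin D i).comp (h2b_wordLin D w) := rfl
    rw [e2, e3, h2b_crv_refl hG hi hlt, ih hw', LinearMap.comp_apply]

theorem h2b_crv_simple (hG : Good2 D) {i : ℕ} (hi : i < D.rank) :
    h2b_crv D (D.simple i) = Pi.single (⟨i, hi⟩ : Fin D.rank) (1 : ℤ) := by
  funext j
  change cr D (D.simple i) j.val = _
  rw [hG.toGood1.cr_simple hi j.2, Pi.single_apply]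
  by_cases h : j.val = i
  · rw [if_pos h, if_pos (Fin.ext h)]
  · rw [if_neg h, if_neg (fun h' => h (congrArg Fin.val h'))]

theorem h2b_crv_inj (hI : h2b_TInj (tabOf D)) {r s : ℕ} (hr : r < D.nroots) (hs : s < D.nroots)
    (h : h2b_crv D r = h2b_crv D s) : r = s := by
  by_contra hne
  have := hI r hr s hs hne
  rw [List.any_eq_true] at this
  obtain ⟨i, hi, hd⟩ := this
  rw [List.mem_range] at hi
  have hd' := of_decide_eq_true hd
  exact hd' (congrFun h ⟨i, hi⟩)

/-- The coordinate vector of a root is the combination of those of the fundamental roots. -/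
theorem h2b_crv_eq_sum (hG : Good2 D) (r : ℕ) :
    h2b_crv D r = ∑ i : Fin D.rank, cr D r i.val • h2b_crv D (D.simple i.val) := by
  funext j
  rw [Finset.sum_apply, Finset.sum_eq_single j]
  · rw [Pi.smul_apply, h2b_crv_simple hG j.2, Pi.single_eq_same, smul_eq_mul, mul_one]
    rfl
  · intro b _ hb
    rw [Pi.smul_apply, h2b_crv_simple hG b.2, Pi.single_apply, if_neg (fun h => hb h.symm),
      smul_zero]
  · intro h; exact absurd (Finset.mem_univ _) h

/-! ### Sign coherence -/

theorem h2b_getD_zero_or_mem (a : Array ℤ) (j : ℕ) : a.getD j 0 = 0 ∨ a.getD j 0 ∈ a.toList := by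
  by_cases h : j < a.size
  · right
    rw [Array.getD_eq_getD_getElem?, Array.getElem?_eq_getElem h]
    simp
  · left
    rw [Array.getD_eq_getD_getElem?, Array.getElem?_eq_none (by omega)]
    rfl

theorem h2b_cr_nonneg (hT : T0 D) {r : ℕ} (hr : r < D.nroots) (hpos : D.nroots / 2 ≤ r) (j : ℕ) :
    0 ≤ cr D r j := by
  have hp := (isPosRoot_iff hT hr).mpr hpos
  rcases h2b_getD_zero_or_mem (D.coroot.getD r #[]) j with h | h
  · unfold cr; rw [h]
  · exact hp.2 _ h

theorem h2b_cr_nonpos (hT : T0 D) {r : ℕ} (hr : r < D.nroots) (hneg : r < D.nroots / 2) (j : ℕ) :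
    cr D r j ≤ 0 := by
  have hp := (isNegRoot_iff hT hr).mpr hneg
  rcases h2b_getD_zero_or_mem (D.coroot.getD r #[]) j with h | h
  · unfold cr; rw [h]
  · exact hp.2 _ h

/-! ### Lemma A -/

/-- The set of the fundamental roots fixed by a word. -/
def h2b_fixSimple (D : ChevalleyDatum) (w : List ℕ) : Set ℕ :=
  {i | i < D.rank ∧ (tabOf D).reflWord w (D.simple i) = D.simple i}

section lemA

variable (hG : Good2 D) (hT : T0 D) (hA : h2b_TA (tabOf D)) {w : List ℕ}
  (hw : ∀ i ∈ w, i < D.rank)

include hG hA hw in
/-- A root supported on the fundamental roots fixed by the word is fixed by the word. -/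
theorem h2b_lemA_fix {r : ℕ} (hr : r < D.nroots)
    (hsupp : ∀ i < D.rank, cr D r i ≠ 0 → i ∈ h2b_fixSimple D w) :
    (tabOf D).reflWord w r = r := by
  apply h2b_crv_inj hA.inj (reflWord_lt hG hw hr) hr
  rw [h2b_crv_reflWord hG hw hr]
  conv_lhs => rw [h2b_crv_eq_sum hG r]
  conv_rhs => rw [h2b_crv_eq_sum hG r]
  rw [map_sum]
  apply Finset.sum_congr rfl
  intro i _
  rw [map_smul]
  by_cases h0 : cr D r i.val = 0
  · rw [h0, zero_smul, zero_smul]
  · have := (hsupp i.val i.2 h0).2
    rw [← h2b_crv_reflWord hG hw (hG.toGood1.simple_lt i.2), this]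

include hG hT hA hw in
/-- **Lemma A**, the hard inclusion: if the word fixes every positive root that it keeps positive, then
a positive root kept positive is supported on the fundamental roots fixed by the word. -/
theorem h2b_lemA_supp
    (hfix : ∀ r, D.nroots / 2 ≤ r → r < D.nroots → D.nroots / 2 ≤ (tabOf D).reflWord w r →
      (tabOf D).reflWord w r = r) :
    ∀ r, D.nroots / 2 ≤ r → r < D.nroots → D.nroots / 2 ≤ (tabOf D).reflWord w r →
      ∀ i < D.rank, cr D r i ≠ 0 → i ∈ h2b_fixSimple D w := by
  have hG1 := hG.toGood1
  intro r
  induction r using Nat.strong_induction_on with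
  | _ r ih =>
    intro hpos hr hkeep i hi hne
    have hyr := hfix r hpos hr hkeep
    rcases hA.desc r hr hpos with ⟨i0, hi0, hsimp⟩ | ⟨i0, hi0, hc0, hp0, hspos, hslt⟩
    · -- `r` is fundamental
      have hsimp' : D.simple i0 = r := hsimp
      have hi0' : i0 < D.rank := hi0
      rw [← hsimp', hG1.cr_simple hi0' hi] at hne
      have : i = i0 := by
        by_contra h
        rw [if_neg h] at hne
        exact hne rfl
      rw [this]
      refine ⟨hi0', ?_⟩
      rw [hsimp']
      exact hyr
    · have hi0' : i0 < D.rank := hi0
      set s := (tabOf D).refl (D.simple i0) r with hs_def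
      set p := (tabOf D).pairing r (D.simple i0) with hp_def
      have hs : s < D.nroots := hG.refl_lt hi0' hr
      have hspos' : D.nroots / 2 ≤ s := hspos
      have hslt' : s < r := hslt
      have hp0' : 0 < p := hp0
      have hα := hG1.simple_lt hi0'
      have hαpos := simple_pos hG1 hT hi0'
      -- `crv s = crv r - p • crv α`
      have hcrs : h2b_crv D s = h2b_crv D r - p • h2b_crv D (D.simple i0) := by
        funext j
        change cr D ((tabOf D).refl (D.simple i0) r) j.val =
          cr D r j.val - p * cr D (D.simple i0) j.val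
        rw [hG.cr_refl hi0' hr j.2, hG1.cr_simple hi0' j.2]
        by_cases h : j.val = i0
        · rw [if_pos h, if_pos h, mul_one]
        · rw [if_neg h, if_neg h, mul_zero]
      -- apply the word
      have hL : h2b_crv D ((tabOf D).reflWord w s) =
          h2b_crv D r - p • h2b_crv D ((tabOf D).reflWord w (D.simple i0)) := by
        rw [h2b_crv_reflWord hG hw hs, hcrs, map_sub, map_smul, ← h2b_crv_reflWord hG hw hr,
          ← h2b_crv_reflWord hG hw hα, hyr]
      have hys := reflWord_lt hG hw hs
      have hyα := reflWord_lt hG hw hα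
      -- the conclusion from `s` kept positive and `α` fixed
      have concl : D.nroots / 2 ≤ (tabOf D).reflWord w s →
          (tabOf D).reflWord w (D.simple i0) = D.simple i0 → i ∈ h2b_fixSimple D w := by
        intro h1 h2
        by_cases hii : i = i0
        · rw [hii]; exact ⟨hi0', h2⟩
        · apply ih s hslt' hspos' hs h1 i hi
          have := congrFun hcrs ⟨i, hi⟩
          change cr D s i = cr D r i - p * cr D (D.simple i0) i at this
          rw [hG1.cr_simple hi0' hi, if_neg hii, mul_zero, sub_zero] at this
          rw [this]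
          exact hne
      by_cases h1 : D.nroots / 2 ≤ (tabOf D).reflWord w s
      · -- `s` is kept positive, hence fixed; then `α` is fixed
        have hys' := hfix s hspos' hs h1
        apply concl h1
        apply h2b_crv_inj hA.inj hyα hα
        rw [hys', hcrs] at hL
        have : p • h2b_crv D ((tabOf D).reflWord w (D.simple i0)) =
            p • h2b_crv D (D.simple i0) := by
          have := hL
          rw [sub_right_inj] at this
          exact this.symm
        exact smul_right_injective _ (ne_of_gt hp0') this
      · by_cases h2 : D.nroots / 2 ≤ (tabOf D).reflWord w (D.simple i0)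
        · -- `α` is kept positive, hence fixed; then `s` is fixed
          have hyα' := hfix _ hαpos hα h2
          have : (tabOf D).reflWord w s = s := by
            apply h2b_crv_inj hA.inj hys hs
            rw [hL, hyα', hcrs]
          rw [this] at h1
          exact absurd hspos' h1
        · -- both become negative: then `r` would have a nonpositive coordinate at `i0`
          exfalso
          have e : h2b_crv D r = h2b_crv D ((tabOf D).reflWord w s) +
              p • h2b_crv D ((tabOf D).reflWord w (D.simple i0)) := by
            rw [hL]; abel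
          have e0 := congrFun e ⟨i0, hi0'⟩
          change cr D r i0 = cr D ((tabOf D).reflWord w s) i0 +
            p * cr D ((tabOf D).reflWord w (D.simple i0)) i0 at e0
          have n1 := h2b_cr_nonpos hT hys (by omega) i0
          have n2 := h2b_cr_nonpos hT hyα (by omega) i0
          have n3 := h2b_cr_nonneg hT hr hpos i0
          have hc0' : cr D r i0 ≠ 0 := hc0
          have : p * cr D ((tabOf D).reflWord w (D.simple i0)) i0 ≤ 0 :=
            mul_nonpos_of_nonneg_of_nonpos (le_of_lt hp0') n2
          omega

include hG hT hA hw in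
/-- **Lemma A**: if the word fixes every positive root that it keeps positive, then the positive roots
kept positive are exactly the positive roots of the root subsystem of the fundamental roots fixed by the
word. -/
theorem h2b_lemA
    (hfix : ∀ r, D.nroots / 2 ≤ r → r < D.nroots → D.nroots / 2 ≤ (tabOf D).reflWord w r →
      (tabOf D).reflWord w r = r)
    {r : ℕ} (hpos : D.nroots / 2 ≤ r) (hr : r < D.nroots) :
    D.nroots / 2 ≤ (tabOf D).reflWord w r ↔ D.InRootSub (h2b_fixSimple D w) r := by
  constructor
  · intro hkeep
    refine ⟨hr, fun i hi hiJ => ?_⟩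
    by_contra hne
    exact hiJ (h2b_lemA_supp hG hT hA hw hfix r hpos hr hkeep i hi hne)
  · intro hsub
    have : (tabOf D).reflWord w r = r := by
      apply h2b_lemA_fix hG hA hw hr
      intro i hi hne
      by_contra hiJ
      exact hne (hsub.2 i hi hiJ)
    rw [this]
    exact hpos

end lemA

end Cfsg.Agent.ChevBlk
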