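import Mathlib
import Cfsg.Agent.ChevBlk.H2_LemA
import Cfsg.Agent.ChevBlk.Defs
import Cfsg.Agent.Helper7.ChevT13
import Cfsg.Agent.Helper7.ChevT0

set_option autoImplicit false
set_option linter.unusedSectionVars false
set_option linter.unusedVariables false

/-!
The three root-combinatorial interfaces of S2441 (`LemmaAHyp`, `LemmaBHyp`, `AdjHyp` of
`ChevBlk/Defs.lean`), from the table facts, and for the seven tabulated data.
-/

namespace Cfsg.Agent.ChevBlk

open Cfsg Cfsg.Lie Cfsg.Agent.Helper7 Cfsg.Agent.Helper7.Chev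

variable {D : ChevalleyDatum}

/-! ### Lemma A in the interface shape -/

theorem h2b_lemmaAHyp (hG : Good2 D) (hT : T0 D) (hA : h2b_TA (tabOf D)) : LemmaAHyp D := by
  intro w hw hfix r
  have hG1 := hG.toGood1
  have hfix' : ∀ r, D.nroots / 2 ≤ r → r < D.nroots → D.nroots / 2 ≤ (tabOf D).reflWord w r →
      (tabOf D).reflWord w r = r := fun r h1 h2 h3 => hfix r ⟨h1, h2, h3⟩
  have hJ : ∀ i, i ∈ plusSimple D w ↔ i ∈ h2b_fixSimple D w := by
    intro i
    constructor
    · rintro ⟨hi, hp⟩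
      exact ⟨hi, hfix _ hp⟩
    · rintro ⟨hi, hp⟩
      refine ⟨hi, simple_pos hG1 hT hi, hG1.simple_lt hi, ?_⟩
      rw [hp]
      exact simple_pos hG1 hT hi
  constructor
  · rintro ⟨h1, h2, h3⟩
    refine ⟨h1, h2, fun i hi hne => ?_⟩
    rw [hJ]
    exact h2b_lemA_supp hG hT hA hw hfix' r h1 h2 h3 i hi hne
  · rintro ⟨h1, h2, h3⟩
    refine ⟨h1, h2, ?_⟩
    have : (tabOf D).reflWord w r = r := by
      apply h2b_lemA_fix hG hA hw h2
      intro i hi hne
      rw [← hJ]
      exact h3 i hi hne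
    rw [this]
    exact h1

/-! ### Lemma B, combinatorial half -/

/-- A root has a nonzero coroot coordinate. -/
theorem h2b_exists_cr_ne (hG : Good2 D) {r : ℕ} (hr : r < D.nroots) :
    ∃ j < D.rank, cr D r j ≠ 0 := by
  by_contra hcon0
  have hcon : ∀ j < D.rank, cr D r j = 0 := by
    intro j hj
    by_contra h
    exact hcon0 ⟨j, hj, h⟩
  have h2 := hG.toGood1.pairing_self hr
  rw [pairing_eq_sum] at h2
  have : ∑ i : Fin D.rank, cr D r i.val * D.cartan i.val r = 0 := by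
    apply Finset.sum_eq_zero
    intro i _
    rw [hcon i.val i.2, zero_mul]
  rw [this] at h2
  norm_num at h2

theorem h2b_lemmaBHyp (hG : Good2 D) (hT : T0 D) (hA : h2b_TA (tabOf D)) : LemmaBHyp D := by
  intro J i k hi hiJ hk r hsupp
  obtain ⟨hpos, hr, hsupp⟩ := hsupp
  have hG1 := hG.toGood1
  have hri : cr D r i = 0 := by
    by_contra h
    exact hiJ (hsupp i hi h)
  obtain ⟨j, hj, hrj⟩ := h2b_exists_cr_ne hG hr
  have hji : j ≠ i := by
    rintro rfl
    exact hrj hri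
  have hrj' : 0 < cr D r j := lt_of_le_of_ne (h2b_cr_nonneg hT hr hpos j) (Ne.symm hrj)
  have hs : (tabOf D).refl (D.simple i) r < D.nroots := hG.refl_lt hi hr
  have hsj : cr D ((tabOf D).refl (D.simple i) r) j = cr D r j := by
    rw [hG.cr_refl hi hr hj, if_neg hji, sub_zero]
  have hspos : D.nroots / 2 ≤ (tabOf D).refl (D.simple i) r := by
    by_contra h
    have := h2b_cr_nonpos hT hs (by omega) j
    rw [hsj] at this
    omega
  refine ⟨hspos, fun hsk => ?_⟩
  have hki : k ≠ i := by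
    rintro rfl
    have := hsj
    rw [hsk, hG1.cr_simple hk hj, if_neg hji] at this
    omega
  -- the pairing vanishes
  have hp : (tabOf D).pairing r (D.simple i) = 0 := by
    have := hG.cr_refl hi hr hi
    rw [hsk, hG1.cr_simple hk hi, if_neg (Ne.symm hki), if_pos rfl, hri] at this
    omega
  -- `r` is the fundamental root
  have hrk : r = D.simple k := by
    apply h2b_crv_inj hA.inj hr (hG1.simple_lt hk)
    funext j'
    change cr D r j'.val = cr D (D.simple k) j'.val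
    by_cases hj' : j'.val = i
    · rw [hj', hri, hG1.cr_simple hk hi, if_neg (Ne.symm hki)]
    · have := hG.cr_refl hi hr j'.2
      rw [if_neg hj', sub_zero, hsk] at this
      exact this.symm
  constructor
  · apply hsupp k hk
    rw [hrk, hG1.cr_simple hk hk, if_pos rfl]
    norm_num
  · rw [hrk, pairing_simple hG1 hk] at hp
    exact hA.sym k hk i hi hp

/-! ### Connectedness of the Dynkin diagram -/

theorem h2b_adjHyp (hA : h2b_TA (tabOf D)) {ord : List ℕ} (h13 : (tabOf D).T13 ord) :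
    AdjHyp D := by
  classical
  rintro J ⟨j0, hj0, hj0J⟩ ⟨i0, hi0, hi0J⟩
  obtain ⟨hl, hall, hlt, hconn, -⟩ := h13
  -- positions of `j0`, `i0` in the order
  have pos_of : ∀ i < D.rank, ∃ a < ord.length, ord.getD a 0 = i := by
    intro i hi
    have := hall i hi
    obtain ⟨a, ha, hai⟩ := List.getElem_of_mem this
    refine ⟨a, ha, ?_⟩
    rw [List.getD_eq_getElem _ _ ha, hai]
  have lt_of : ∀ a < ord.length, ord.getD a 0 < D.rank := by
    intro a ha
    rw [List.getD_eq_getElem _ _ ha]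
    exact hlt _ (List.getElem_mem ha)
  -- a position whose status differs from that of position `0`
  have hex : ∃ a, a < ord.length ∧ ¬ (ord.getD a 0 ∈ J ↔ ord.getD 0 0 ∈ J) := by
    obtain ⟨a, ha, haj⟩ := pos_of j0 hj0
    obtain ⟨b, hb, hbi⟩ := pos_of i0 hi0
    by_cases h0 : ord.getD 0 0 ∈ J
    · refine ⟨b, hb, ?_⟩
      rw [hbi]
      tauto
    · refine ⟨a, ha, ?_⟩
      rw [haj]
      tauto
  let k := Nat.find hex
  have hk : k < ord.length ∧ ¬ (ord.getD k 0 ∈ J ↔ ord.getD 0 0 ∈ J) := Nat.find_spec hex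
  have hmin : ∀ m < k, m < ord.length → (ord.getD m 0 ∈ J ↔ ord.getD 0 0 ∈ J) := by
    intro m hm hml
    by_contra h
    exact Nat.find_min hex hm ⟨hml, h⟩
  have hk0 : 0 < k := by
    rcases Nat.eq_zero_or_pos k with h | h
    · exfalso
      apply hk.2
      rw [h]
    · exact h
  obtain ⟨m, hmk, hcart, hne⟩ := hconn k hk.1 hk0
  have hml : m < ord.length := lt_trans hmk hk.1
  have hPm := hmin m hmk hml
  have hm_lt := lt_of m hml
  have hk_lt := lt_of k hk.1
  have hcart' : D.cartan (ord.getD m 0) (D.simple (ord.getD k 0)) ≠ 0 := hcart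
  by_cases hmJ : ord.getD m 0 ∈ J
  · -- `ord m ∈ J`, `ord k ∉ J`
    have hkJ : ord.getD k 0 ∉ J := by
      intro h
      apply hk.2
      constructor
      · intro _; exact hPm.mp hmJ
      · intro _; exact h
    refine ⟨ord.getD k 0, hk_lt, hkJ, ord.getD m 0, hm_lt, hmJ, ?_⟩
    intro h
    exact hcart' (hA.sym (ord.getD k 0) hk_lt (ord.getD m 0) hm_lt h)
  · -- `ord m ∉ J`, `ord k ∈ J`
    have hkJ : ord.getD k 0 ∈ J := by
      by_contra h
      apply hk.2
      constructor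
      · intro h'; exact absurd h' h
      · intro h'; exact absurd (hPm.mpr h') hmJ
    exact ⟨ord.getD m 0, hm_lt, hmJ, ord.getD k 0, hk_lt, hkJ, hcart'⟩

/-! ### The seven tabulated data -/

theorem h2b_exists_T13 (D : ChevalleyDatum)
    (hD : D ∈ [chevG2, chevB2, chevD4, chevF4, chevE6, chevE7, chevE8]) :
    ∃ ord : List ℕ, (tabOf D).T13 ord :=
  chev_cases (p := fun D => ∃ ord : List ℕ, (tabOf D).T13 ord) D hD ⟨_, T13_G2⟩ ⟨_, T13_B2⟩
    ⟨_, T13_D4⟩ ⟨_, T13_F4⟩ ⟨_, T13_E6⟩ ⟨_, T13_E7⟩ ⟨_, T13_E8⟩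

theorem h2b_lemmaAHyp_of_mem (D : ChevalleyDatum)
    (hD : D ∈ [chevG2, chevB2, chevD4, chevF4, chevE6, chevE7, chevE8]) : LemmaAHyp D :=
  h2b_lemmaAHyp (good2_of_mem D hD) (T0_of_mem D hD) (h2b_TA_of_mem D hD)

theorem h2b_lemmaBHyp_of_mem (D : ChevalleyDatum)
    (hD : D ∈ [chevG2, chevB2, chevD4, chevF4, chevE6, chevE7, chevE8]) : LemmaBHyp D :=
  h2b_lemmaBHyp (good2_of_mem D hD) (T0_of_mem D hD) (h2b_TA_of_mem D hD)

theorem h2b_adjHyp_of_mem (D : ChevalleyDatum)
    (hD : D ∈ [chevG2, chevB2, chevD4, chevF4, chevE6, chevE7, chevE8]) : AdjHyp D := by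
  obtain ⟨ord, h13⟩ := h2b_exists_T13 D hD
  exact h2b_adjHyp (h2b_TA_of_mem D hD) h13

end Cfsg.Agent.ChevBlk
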