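import Mathlib
import Cfsg.Agent.Helper7.ChevT7

set_option autoImplicit false

/-!
A table fact for the tabulated Chevalley data: the roots of the commutator terms of two distinct positive
roots, taken in either order, are positive.
-/

namespace Cfsg.Agent.Helper7.Chev

open Cfsg Cfsg.Lie

namespace Tab

variable (T : Tab)

/-- The roots of the commutator terms of two distinct positive roots are positive. -/
def T7u : Prop :=
  AllLt T.n (fun r => T.n / 2 ≤ r → AllLt T.n (fun s => T.n / 2 ≤ s → s ≠ r →
    (T.commTerms r s).all (fun c => decide (T.n / 2 ≤ c.1 ∧ c.1 < T.n)) = true))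

instance : Decidable T.T7u := by unfold T7u; infer_instance

end Tab

set_option maxRecDepth 1000000 in
set_option maxHeartbeats 0 in
theorem T7u_G2 : (tabOf chevG2).T7u := by decide +kernel

set_option maxRecDepth 1000000 in
set_option maxHeartbeats 0 in
theorem T7u_B2 : (tabOf chevB2).T7u := by decide +kernel

set_option maxRecDepth 1000000 in
set_option maxHeartbeats 0 in
theorem T7u_D4 : (tabOf chevD4).T7u := by decide +kernel

set_option maxRecDepth 1000000 in
set_option maxHeartbeats 0 in
theorem T7u_F4 : (tabOf chevF4).T7u := by decide +kernel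

set_option maxRecDepth 1000000 in
set_option maxHeartbeats 0 in
theorem T7ufast_E6 : fastE6.T7u := by decide +kernel

theorem T7u_E6 : (tabOf chevE6).T7u := tab_E6 ▸ T7ufast_E6

set_option maxRecDepth 1000000 in
set_option maxHeartbeats 0 in
theorem T7ufast_E7 : fastE7.T7u := by decide +kernel

theorem T7u_E7 : (tabOf chevE7).T7u := tab_E7 ▸ T7ufast_E7

set_option maxRecDepth 1000000 in
set_option maxHeartbeats 0 in
theorem T7ufast_E8 : fastE8.T7u := by decide +kernel

theorem T7u_E8 : (tabOf chevE8).T7u := tab_E8 ▸ T7ufast_E8

/-- The positivity of commutator terms holds for each of the seven tabulated data. -/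
theorem T7u_of_mem (D : ChevalleyDatum)
    (hD : D ∈ [chevG2, chevB2, chevD4, chevF4, chevE6, chevE7, chevE8]) : (tabOf D).T7u :=
  chev_cases (p := fun D => (tabOf D).T7u) D hD T7u_G2 T7u_B2 T7u_D4 T7u_F4 T7u_E6 T7u_E7 T7u_E8

end Cfsg.Agent.Helper7.Chev
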