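import Mathlib
import Cfsg.Agent.Helper7.ChevCount
import Cfsg.Agent.Helper7.ChevTw11
import Cfsg.Agent.ChevBlk.H7_TabPos

set_option autoImplicit false
set_option linter.unusedSectionVars false
set_option linter.unusedVariables false

/-!
The intersection of `U` with a conjugate of `U` in a Chevalley group over a finite field: for `x = b n u'`
in sharp Bruhat form, `U ∩ x U x⁻¹ = b U_S b⁻¹`, where `S` is the closed set of positive roots kept
positive by (a word for) `n⁻¹`.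
-/

namespace Cfsg.Agent.Helper7.Chev

open Cfsg Cfsg.Lie Matrix
open scoped Pointwise

variable {D : ChevalleyDatum} {F : Type*} [Field F]

/-- The positive roots kept positive by the word. -/
def plusSet (D : ChevalleyDatum) (w : List ℕ) : ℕ → Prop :=
  fun r => D.nroots / 2 ≤ r ∧ r < D.nroots ∧ D.nroots / 2 ≤ (tabOf D).reflWord w r

section plus

variable (hG : Good2 D) (hT : T0 D) (h3 : (tabOf D).T3) (h4 : (tabOf D).T4 60) (h7 : (tabOf D).T7)
  (h7n : (tabOf D).T7n) (h7u : (tabOf D).T7u) (h8 : (tabOf D).T8)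

include hG hT h3 h7 h7u in
/-- The set of positive roots kept positive by a word is closed. -/
theorem closedSet_plusSet {w : List ℕ} (hw : ∀ i ∈ w, i < D.rank) : ClosedSet D (plusSet D w) := by
  have hG1 := hG.toGood1
  intro r s hr1 hrs hs ⟨_, hr, hrw⟩ ⟨hs1, _, hsw⟩ c hc
  have hterms := h7 r hr hr1 s hs hrs
  rw [List.all_eq_true] at hterms
  have hc1 := of_decide_eq_true (hterms c hc)
  have hsr : s ≠ r := by omega
  have hsn : s ≠ D.neg r := by
    intro h
    have := neg_neg_of_pos hG hT hr hr1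
    omega
  refine ⟨by omega, hc1.2, ?_⟩
  obtain ⟨c', hc', e'⟩ := commTerms_reflWord hG h3 hw hr hs hsr hsn c hc
  have hwr := reflWord_lt hG hw hr
  have hws := reflWord_lt hG hw hs
  have hne : (tabOf D).reflWord w s ≠ (tabOf D).reflWord w r :=
    fun h => hsr (reflWord_injective hG hw hs hr h)
  have hpos := h7u _ hwr hrw _ hws hsw hne
  rw [List.all_eq_true] at hpos
  have := of_decide_eq_true (hpos c' hc')
  rw [e'] at this
  exact this.1

end plus

section conj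

variable (hG : Good2 D) (hT : T0 D)

include hG in
/-- Conjugation of a root element by `h n_v`. -/
theorem hn_conj_xGL {h : GL D.Idx F} (hh : h ∈ D.diagonalSubgroup F) {v : List ℕ}
    (hv : ∀ i ∈ v, i < D.rank) {r : ℕ} (hr : r < D.nroots) :
    ∃ c : F, c ≠ 0 ∧ ∀ t : F, h * nWordGL hG v * xGL hG.toGood1 hr t * (h * nWordGL hG v)⁻¹ =
      xGL hG.toGood1 (reflWord_lt hG hv hr) (c * t) := by
  have hG1 := hG.toGood1
  obtain ⟨χ, hχ, hlin⟩ := diagonal_conj_xGL_lin hG hh (reflWord_lt hG hv hr)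
  refine ⟨χ * (((tabOf D).etaWord v r : ℤ) : F), mul_ne_zero hχ (etaWord_cast_ne_zero hG hv hr),
    fun t => ?_⟩
  have e : h * nWordGL hG v * xGL hG1 hr t * (h * nWordGL hG v)⁻¹ =
      h * (nWordGL hG v * xGL hG1 hr t * (nWordGL hG v)⁻¹) * h⁻¹ := by group
  rw [e, nWordGL_conj hG hv hr, hlin, mul_assoc]

include hT in
/-- The subgroup generated by root subgroups of positive roots lies in `U`. -/
theorem UgeS_le_posUnipotent (Ψ : ℕ → Prop) : UgeS D F Ψ (D.nroots / 2) ≤ D.posUnipotent F := by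
  unfold UgeS ChevalleyDatum.posUnipotent
  apply Subgroup.closure_mono
  rintro g ⟨r, t, hr1, hr, _, hg⟩
  exact ⟨r, t, (isPosRoot_iff hT hr).mpr hr1, hg⟩

include hG hT in
/-- `h n_v` conjugates `U_S`, `S` the positive roots kept positive by `v`, into `U`. -/
theorem map_conj_plus_le {h : GL D.Idx F} (hh : h ∈ D.diagonalSubgroup F) {v : List ℕ}
    (hv : ∀ i ∈ v, i < D.rank) :
    (UgeS D F (plusSet D v) (D.nroots / 2)).map (MulAut.conj (h * nWordGL hG v)).toMonoidHom ≤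
      D.posUnipotent F := by
  have hG1 := hG.toGood1
  unfold UgeS
  rw [MonoidHom.map_closure, Subgroup.closure_le]
  rintro y ⟨g, ⟨r, t, hr1, hr, ⟨_, _, hrv⟩, hg⟩, rfl⟩
  rw [eq_xGL hG1 hr hg]
  obtain ⟨c, _, hc⟩ := hn_conj_xGL (F := F) hG hh hv hr
  change h * nWordGL hG v * xGL hG1 hr t * (h * nWordGL hG v)⁻¹ ∈ D.posUnipotent F
  rw [hc]
  exact Subgroup.subset_closure
    ⟨_, _, (isPosRoot_iff hT (reflWord_lt hG hv hr)).mpr hrv, xGL_coe hG1 _ _⟩

include hG hT in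
/-- `h n_v` conjugates `U_v⁻` into `U⁻`. -/
theorem map_conj_minus_le {h : GL D.Idx F} (hh : h ∈ D.diagonalSubgroup F) {v : List ℕ}
    (hv : ∀ i ∈ v, i < D.rank) :
    (UgeS D F (minusSet D v) (D.nroots / 2)).map (MulAut.conj (h * nWordGL hG v)).toMonoidHom ≤
      D.negUnipotent F := by
  have hG1 := hG.toGood1
  unfold UgeS
  rw [MonoidHom.map_closure, Subgroup.closure_le]
  rintro y ⟨g, ⟨r, t, hr1, hr, ⟨_, _, hrv⟩, hg⟩, rfl⟩
  rw [eq_xGL hG1 hr hg]
  obtain ⟨c, _, hc⟩ := hn_conj_xGL (F := F) hG hh hv hr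
  change h * nWordGL hG v * xGL hG1 hr t * (h * nWordGL hG v)⁻¹ ∈ D.negUnipotent F
  rw [hc]
  exact Subgroup.subset_closure
    ⟨_, _, (isNegRoot_iff hT (reflWord_lt hG hv hr)).mpr hrv, xGL_coe hG1 _ _⟩

end conj

section factor

variable (hG : Good2 D) (hT : T0 D) (h3 : (tabOf D).T3) (h4 : (tabOf D).T4 60) (h7 : (tabOf D).T7)
  (h7n : (tabOf D).T7n) (h7u : (tabOf D).T7u) (h8 : (tabOf D).T8)

include hG hT in
/-- `U_S` and `U_v⁻` meet trivially. -/
theorem plus_inf_minus_eq_bot {v : List ℕ} (hv : ∀ i ∈ v, i < D.rank) :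
    UgeS D F (plusSet D v) (D.nroots / 2) ⊓ UgeS D F (minusSet D v) (D.nroots / 2) = ⊥ := by
  rw [eq_bot_iff]
  intro z hz
  rw [Subgroup.mem_bot]
  have h1 := map_conj_plus_le (F := F) hG hT (one_mem _) hv (Subgroup.mem_map_of_mem _ hz.1)
  have h2 := map_conj_minus_le (F := F) hG hT (one_mem _) hv (Subgroup.mem_map_of_mem _ hz.2)
  have hUB : D.posUnipotent F ≤ D.borelSubgroup F := le_sup_left
  have h3' : (MulAut.conj (1 * nWordGL hG v)).toMonoidHom z ∈
      D.borelSubgroup F ⊓ D.negUnipotent F := ⟨hUB h1, h2⟩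
  rw [borel_inf_negUnipotent hG hT, Subgroup.mem_bot] at h3'
  have : (1 * nWordGL hG v) * z * (1 * nWordGL hG v)⁻¹ = 1 := h3'
  have e : z = (1 * nWordGL hG v)⁻¹ * ((1 * nWordGL hG v) * z * (1 * nWordGL hG v)⁻¹) *
      (1 * nWordGL hG v) := by group
  rw [e, this]
  group

include hG hT h3 h4 h7 h7n h7u h8 in
/-- Over a finite field, `U = U_S U_v⁻`, `S` the positive roots kept positive by `v`. -/
theorem posUnipotent_eq_plus_mul_minus [Fintype F] {v : List ℕ} (hv : ∀ i ∈ v, i < D.rank)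
    {g : GL D.Idx F} (hg : g ∈ D.posUnipotent F) :
    ∃ a ∈ UgeS D F (plusSet D v) (D.nroots / 2), ∃ c ∈ UgeS D F (minusSet D v) (D.nroots / 2),
      g = a * c := by
  classical
  have hle : D.nroots / 2 ≤ D.nroots := Nat.div_le_self _ _
  have heven : D.nroots % 2 = 0 := h8.2
  have hPU := UgeS_le_posUnipotent (F := F) hT (plusSet D v)
  have hMU := UgeS_le_posUnipotent (F := F) hT (minusSet D v)
  have hdisj := plus_inf_minus_eq_bot (F := F) hG hT hv
  let Φ : ↥(UgeS D F (plusSet D v) (D.nroots / 2)) × ↥(UgeS D F (minusSet D v) (D.nroots / 2)) →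
      ↥(D.posUnipotent F) := fun p =>
    ⟨(p.1 : GL D.Idx F) * (p.2 : GL D.Idx F), mul_mem (hPU p.1.2) (hMU p.2.2)⟩
  have hinj : Function.Injective Φ := by
    rintro ⟨⟨a, ha⟩, ⟨c, hc⟩⟩ ⟨⟨a', ha'⟩, ⟨c', hc'⟩⟩ e
    have e' : a * c = a' * c' := congrArg (fun x : ↥(D.posUnipotent F) => (x : GL D.Idx F)) e
    have hmem : a'⁻¹ * a ∈ UgeS D F (plusSet D v) (D.nroots / 2) ⊓
        UgeS D F (minusSet D v) (D.nroots / 2) := by
      refine Subgroup.mem_inf.mpr ⟨mul_mem (inv_mem ha') ha, ?_⟩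
      have : a'⁻¹ * a = c' * c⁻¹ := by
        calc a'⁻¹ * a = a'⁻¹ * (a * c) * c⁻¹ := by group
          _ = a'⁻¹ * (a' * c') * c⁻¹ := by rw [e']
          _ = _ := by group
      rw [this]
      exact mul_mem hc' (inv_mem hc)
    rw [hdisj, Subgroup.mem_bot] at hmem
    have haa : a = a' := (inv_mul_eq_one.mp hmem).symm
    subst haa
    have hcc : c = c' := mul_left_cancel e'
    subst hcc
    rfl
  -- the orders
  set Sp : Finset ℕ := (Finset.Ico (D.nroots / 2) D.nroots).filter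
    (fun r => D.nroots / 2 ≤ (tabOf D).reflWord v r) with hSp
  set Sm : Finset ℕ := (Finset.Ico (D.nroots / 2) D.nroots).filter
    (fun r => ¬ D.nroots / 2 ≤ (tabOf D).reflWord v r) with hSm
  have hcp := card_UgeS (F := F) hG hT h3 h4 h7 h8 (closedSet_plusSet hG hT h3 h7 h7u hv) Sp (by
    intro r
    rw [hSp, Finset.mem_filter, Finset.mem_Ico]
    unfold plusSet
    tauto)
  have hcm := card_UgeS (F := F) hG hT h3 h4 h7 h8 (closedSet_minusSet hG hT h3 h7 h7n hv) Sm (by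
    intro r
    rw [hSm, Finset.mem_filter, Finset.mem_Ico, not_le]
    unfold minusSet
    tauto)
  have hsum : Sp.card + Sm.card = D.nroots / 2 := by
    rw [hSp, hSm, Finset.card_filter_add_card_filter_not, Nat.card_Ico]
    omega
  have hcard : Nat.card ↥(D.posUnipotent F) ≤
      Nat.card (↥(UgeS D F (plusSet D v) (D.nroots / 2)) ×
        ↥(UgeS D F (minusSet D v) (D.nroots / 2))) := by
    rw [Nat.card_prod, hcp, hcm, ← pow_add, hsum, card_posUnipotent hG hT h3 h4 h7 h8]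
  obtain ⟨⟨⟨a, ha⟩, ⟨c, hc⟩⟩, e⟩ := (hinj.bijective_of_nat_card_le hcard).2 ⟨g, hg⟩
  exact ⟨a, ha, c, hc, (congrArg (fun x : ↥(D.posUnipotent F) => (x : GL D.Idx F)) e).symm⟩

include hG hT h3 h4 h7 h7n h7u h8 in
/-- Over a finite field, the elements of `U` conjugated into `U` by `h n_v` are those of `U_S`,
`S` the closed set of positive roots kept positive by `v`. -/
theorem posUnipotent_inf_comap_conj [Fintype F] {h : GL D.Idx F} (hh : h ∈ D.diagonalSubgroup F)
    {v : List ℕ} (hv : ∀ i ∈ v, i < D.rank) (g : GL D.Idx F) :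
    (g ∈ D.posUnipotent F ∧ h * nWordGL hG v * g * (h * nWordGL hG v)⁻¹ ∈ D.posUnipotent F) ↔
      g ∈ UgeS D F (plusSet D v) (D.nroots / 2) := by
  have hUB : D.posUnipotent F ≤ D.borelSubgroup F := le_sup_left
  constructor
  · rintro ⟨hg, hgm⟩
    obtain ⟨a, ha, c, hc, rfl⟩ := posUnipotent_eq_plus_mul_minus hG hT h3 h4 h7 h7n h7u h8 hv hg
    have h1 : h * nWordGL hG v * a * (h * nWordGL hG v)⁻¹ ∈ D.posUnipotent F :=
      map_conj_plus_le (F := F) hG hT hh hv (Subgroup.mem_map_of_mem _ ha)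
    have h2 : h * nWordGL hG v * c * (h * nWordGL hG v)⁻¹ ∈ D.negUnipotent F :=
      map_conj_minus_le (F := F) hG hT hh hv (Subgroup.mem_map_of_mem _ hc)
    have h3' : h * nWordGL hG v * c * (h * nWordGL hG v)⁻¹ ∈ D.posUnipotent F := by
      have e : h * nWordGL hG v * c * (h * nWordGL hG v)⁻¹ =
          (h * nWordGL hG v * a * (h * nWordGL hG v)⁻¹)⁻¹ *
            (h * nWordGL hG v * (a * c) * (h * nWordGL hG v)⁻¹) := by group
      rw [e]
      exact mul_mem (inv_mem h1) hgm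
    have h4' : h * nWordGL hG v * c * (h * nWordGL hG v)⁻¹ ∈
        D.borelSubgroup F ⊓ D.negUnipotent F := ⟨hUB h3', h2⟩
    rw [borel_inf_negUnipotent hG hT, Subgroup.mem_bot] at h4'
    have hc1 : c = 1 := by
      have e : c = (h * nWordGL hG v)⁻¹ * (h * nWordGL hG v * c * (h * nWordGL hG v)⁻¹) *
          (h * nWordGL hG v) := by group
      rw [e, h4']
      group
    rw [hc1, mul_one]
    exact ha
  · intro hg
    exact ⟨UgeS_le_posUnipotent (F := F) hT _ hg,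
      map_conj_plus_le (F := F) hG hT hh hv (Subgroup.mem_map_of_mem _ hg)⟩

end factor

section main

variable (hG : Good2 D) (hT : T0 D) (h3 : (tabOf D).T3) (h4 : (tabOf D).T4 60) (h5 : (tabOf D).T5)
  (h6 : (tabOf D).T6) (h7 : (tabOf D).T7) (h7n : (tabOf D).T7n) (h7u : (tabOf D).T7u)
  (h8 : (tabOf D).T8) (h9 : (tabOf D).T9)

include hG in
/-- `B` normalises `U`: conjugation form. -/
theorem borel_conj_mem_pos_iff {b : GL D.Idx F} (hb : b ∈ D.borelSubgroup F) (g : GL D.Idx F) :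
    b⁻¹ * g * b ∈ D.posUnipotent F ↔ g ∈ D.posUnipotent F := by
  have hN : D.borelSubgroup F ≤ Subgroup.normalizer (D.posUnipotent F : Set (GL D.Idx F)) := by
    unfold ChevalleyDatum.borelSubgroup
    exact sup_le Subgroup.le_normalizer (diagonalSubgroup_le_normalizer_pos hG)
  have := (Subgroup.mem_set_normalizer_iff.mp (hN (inv_mem hb)) g)
  rw [inv_inv] at this
  exact this.symm

include hG hT h3 h4 h5 h6 h7 h7n h7u h8 h9 in
/-- The intersection of `U` with a conjugate of `U`, over a finite field: every `x` of the Chevalley group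
is `b n u` with `b ∈ B`, `n ∈ N`, `u ∈ U`, `n⁻¹ = h n_v` for some `h ∈ H` and a word `v`, and then
`U ∩ x U x⁻¹ = b U_S b⁻¹`, `S` the closed set of the positive roots kept positive by `v`. -/
theorem posUnipotent_inf_conj [Fintype F] {x : GL D.Idx F} (hx : x ∈ D.group F) :
    ∃ b ∈ D.borelSubgroup F, ∃ n ∈ D.monomialSubgroup F, ∃ u ∈ D.posUnipotent F,
      ∃ h ∈ D.diagonalSubgroup F, ∃ v : List ℕ, (∀ i ∈ v, i < D.rank) ∧ x = b * n * u ∧
        n⁻¹ = h * nWordGL hG v ∧ ClosedSet D (plusSet D v) ∧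
        ∀ g : GL D.Idx F, (g ∈ D.posUnipotent F ∧ x⁻¹ * g * x ∈ D.posUnipotent F) ↔
          b⁻¹ * g * b ∈ UgeS D F (plusSet D v) (D.nroots / 2) := by
  obtain ⟨hex, _⟩ := bruhat_normal_form (F := F) hG hT h3 h4 h5 h6 h8 h9
  obtain ⟨b, hb, n, hn, u, hu, rfl⟩ := hex x hx
  have huU : u ∈ D.posUnipotent F := by
    revert hu
    apply Subgroup.closure_mono
    rintro y ⟨r, t, hr, _, hy⟩
    exact ⟨r, t, hr, hy⟩
  obtain ⟨h, hh, v, hv, e⟩ := monomialSubgroup_le_nWords hG hT h9 (inv_mem hn)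
  refine ⟨b, hb, n, hn, u, huU, h, hh, v, hv, rfl, e, closedSet_plusSet hG hT h3 h7 h7u hv, ?_⟩
  intro g
  rw [← posUnipotent_inf_comap_conj hG hT h3 h4 h7 h7n h7u h8 hh hv, borel_conj_mem_pos_iff hG hb,
    ← e, inv_inv]
  have e2 : (b * n * u)⁻¹ * g * (b * n * u) = u⁻¹ * (n⁻¹ * (b⁻¹ * g * b) * n) * u := by group
  rw [e2]
  constructor
  · rintro ⟨h1, h2⟩
    refine ⟨h1, ?_⟩
    have : n⁻¹ * (b⁻¹ * g * b) * n = u * (u⁻¹ * (n⁻¹ * (b⁻¹ * g * b) * n) * u) * u⁻¹ := by group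
    rw [this]
    exact mul_mem (mul_mem huU h2) (inv_mem huU)
  · rintro ⟨h1, h2⟩
    exact ⟨h1, mul_mem (mul_mem (inv_mem huU) h2) huU⟩

include hG hT h3 h4 h5 h6 h7 h7n h7u h8 h9 in
/-- Subgroup form of `posUnipotent_inf_conj`. -/
theorem posUnipotent_inf_map_conj [Fintype F] {x : GL D.Idx F} (hx : x ∈ D.group F) :
    ∃ b ∈ D.borelSubgroup F, ∃ n ∈ D.monomialSubgroup F, ∃ u ∈ D.posUnipotent F,
      ∃ h ∈ D.diagonalSubgroup F, ∃ v : List ℕ, (∀ i ∈ v, i < D.rank) ∧ x = b * n * u ∧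
        n⁻¹ = h * nWordGL hG v ∧ ClosedSet D (plusSet D v) ∧
        D.posUnipotent F ⊓ (D.posUnipotent F).map (MulAut.conj x).toMonoidHom =
          (UgeS D F (plusSet D v) (D.nroots / 2)).map (MulAut.conj b).toMonoidHom := by
  obtain ⟨b, hb, n, hn, u, hu, h, hh, v, hv, e1, e2, hcl, hiff⟩ :=
    posUnipotent_inf_conj (F := F) hG hT h3 h4 h5 h6 h7 h7n h7u h8 h9 hx
  refine ⟨b, hb, n, hn, u, hu, h, hh, v, hv, e1, e2, hcl, ?_⟩
  ext g
  rw [Subgroup.mem_inf, Subgroup.mem_map, Subgroup.mem_map]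
  constructor
  · rintro ⟨h1, y, hy, rfl⟩
    refine ⟨b⁻¹ * (x * y * x⁻¹) * b, (hiff _).mp ⟨h1, ?_⟩, ?_⟩
    · have : x⁻¹ * (x * y * x⁻¹) * x = y := by group
      rw [this]
      exact hy
    · change b * (b⁻¹ * (x * y * x⁻¹) * b) * b⁻¹ = x * y * x⁻¹
      group
  · rintro ⟨y, hy, rfl⟩
    have hy' : b⁻¹ * ((MulAut.conj b).toMonoidHom y) * b = y := by
      change b⁻¹ * (b * y * b⁻¹) * b = y
      group
    obtain ⟨h1, h2⟩ := (hiff ((MulAut.conj b).toMonoidHom y)).mpr (by rw [hy']; exact hy)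
    refine ⟨h1, x⁻¹ * ((MulAut.conj b).toMonoidHom y) * x, h2, ?_⟩
    change x * (x⁻¹ * ((MulAut.conj b).toMonoidHom y) * x) * x⁻¹ = _
    group

end main

end Cfsg.Agent.Helper7.Chev
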