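import Mathlib
import Cfsg.Agent.ChevBlk.Defs
import Cfsg.Agent.ChevBlk.H7_Inter
import Cfsg.Agent.ChevUni.H1_Split

set_option autoImplicit false
set_option linter.unusedSectionVars false
set_option linter.unusedVariables false

/-!
S2441, piece P1: the intersection formula `InterHyp` of `ChevBlk/Defs.lean`, over a finite field.
-/

namespace Cfsg.Agent.ChevBlk

open Cfsg Cfsg.Lie Matrix Cfsg.Agent.Helper7 Cfsg.Agent.Helper7.Chev

variable {D : ChevalleyDatum} {F : Type*} [Field F]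

/-- The two copies of `plusSet` agree. -/
theorem h7_plusSet_eq (D : ChevalleyDatum) (w : List ℕ) :
    plusSet D w = Cfsg.Agent.Helper7.Chev.plusSet D w := rfl

/-- **P1**: the intersection formula, from the table facts. -/
theorem h7_interHyp (hG : Good2 D) (hT : T0 D) (h3 : (tabOf D).T3) (h4 : (tabOf D).T4 60)
    (h5 : (tabOf D).T5) (h6 : (tabOf D).T6) (h7 : (tabOf D).T7) (h7n : (tabOf D).T7n)
    (h7u : (tabOf D).T7u) (h8 : (tabOf D).T8) (h9 : (tabOf D).T9) [Fintype F] :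
    InterHyp hG F := by
  intro x hx
  obtain ⟨b, hb, n, hn, u, hu, h, hh, v, hv, e1, e2, hcl, hinter⟩ :=
    posUnipotent_inf_map_conj (F := F) hG hT h3 h4 h5 h6 h7 h7n h7u h8 h9 hx
  have hUB : D.posUnipotent F ≤ D.borelSubgroup F := le_sup_left
  have hHB : D.diagonalSubgroup F ≤ D.borelSubgroup F := le_sup_right
  refine ⟨b, hb, v, hv, h⁻¹ * u, mul_mem (inv_mem (hHB hh)) (hUB hu), ?_, ?_, ?_⟩
  · have hn' : n = (nWordGL hG v)⁻¹ * h⁻¹ := by
      rw [← inv_inv n, e2, _root_.mul_inv_rev]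
    rw [e1, hn']
    group
  · rw [h7_plusSet_eq]
    exact hcl
  · rw [h7_plusSet_eq]
    exact hinter

/-- **P1** for the seven tabulated types. -/
theorem h7_interHyp_of_mem (D : ChevalleyDatum)
    (hD : D ∈ [chevG2, chevB2, chevD4, chevF4, chevE6, chevE7, chevE8]) (hG : Good2 D)
    (F : Type*) [Field F] [Fintype F] : InterHyp hG F :=
  h7_interHyp hG (T0_of_mem D hD) (good3_of_mem D hD).t3 (good3_of_mem D hD).t4 (T5_of_mem D hD)
    (T6_of_mem D hD) (T7_of_mem D hD) (Cfsg.Agent.ChevUni.h1_T7n_of_mem D hD) (T7u_of_mem D hD)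
    (T8_of_mem D hD) (T9_of_mem D hD)

end Cfsg.Agent.ChevBlk
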