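import Mathlib
import Cfsg.Prelude.Def_Characters
import Cfsg.Prelude.Def_Blocks
import Cfsg.Agent.Helper6.GreenH
import Cfsg.Agent.Helper6.SylBlkC
import Cfsg.Agent.Helper6.QuotDefA
import Cfsg.Agent.Helper6.DefectZeroBlock
import Cfsg.Agent.Helper6.DefectCenter
import Cfsg.Agent.Helper6.DefectOrder
import Cfsg.Agent.Helper6.BlockFusionRec1
import Cfsg.Agent.Helper6.BrauerPair

set_option autoImplicit false

/-!
# Exactly two blocks from Green's theorem (abstract side of S2441)

A finite group `G` with a Sylow `p`-subgroup `P` such that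
(a) there is exactly one irreducible character of `p`-defect zero,
(b) the only `p`-regular element of `N_G(P) ∩ C_G(P)` is `1`,
(c) no subgroup `1 ≠ D < P` has all its `G`-conjugates inside `P` of the form `P ∩ xPx⁻¹` with
    `x` centralizing the conjugate,
has exactly two `p`-blocks.
-/

namespace Cfsg.Agent.ChevBlk

open Cfsg Cfsg.Agent.Helper6

universe u

variable {G : Type u} [Group G] {M : Ideal Cfsg.AlgInt}

/-- The Green property of a subgroup `D` of the Sylow subgroup `P`: every conjugate of `D` inside `P`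
is an intersection `P ∩ xPx⁻¹` with `x` centralizing that conjugate. -/
def GreenProp (P D : Subgroup G) : Prop :=
  ∀ g : G, D.map (MulAut.conj g).toMonoidHom ≤ P →
    ∃ x : G, x ∈ Subgroup.centralizer ((D.map (MulAut.conj g).toMonoidHom : Subgroup G) : Set G) ∧
      P ⊓ P.map (MulAut.conj x).toMonoidHom = D.map (MulAut.conj g).toMonoidHom

/-- every defect group inside `P` has the Green property -/
theorem greenProp_of_isDefectGroup [Finite G] {p : ℕ} [hp : Fact p.Prime]
    (hM : Cfsg.IsPModular p M) (B : Set (Cfsg.IrrCharacter G)) (hB : Cfsg.IsPBlock M B)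
    (D : Subgroup G) (hD : Cfsg.IsDefectGroup p M B D) (P : Sylow p G) :
    GreenProp (P : Subgroup G) D := by
  intro g hg
  have hD' := isDefectGroup_conj (M := M) B D hD g
  obtain ⟨x, -, ⟨S, hS⟩, hx⟩ := Green.green p hM B hB _ hD' P hg
  refine ⟨x, ?_, hx⟩
  rw [Subgroup.mem_centralizer_iff]
  intro d hd
  rw [SetLike.mem_coe, ← hS] at hd
  obtain ⟨c, -, rfl⟩ := hd
  have := Subgroup.mem_centralizer_singleton_iff.mp c.2
  exact this

/-- a block all of whose defect groups are trivial consists of characters of defect zero -/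
theorem dvd_charDegree_of_defectGroup_bot [Finite G] {p : ℕ} [hp : Fact p.Prime]
    (hM : Cfsg.IsPModular p M) (B : Set (Cfsg.IrrCharacter G)) (hB : Cfsg.IsPBlock M B)
    (hD : Cfsg.IsDefectGroup p M B (⊥ : Subgroup G)) (χ : Cfsg.IrrCharacter G) (hχ : χ ∈ B) :
    p ^ (Nat.card G).factorization p ∣ Cfsg.charDegree (χ : G → ℂ) := by
  have hc := card_defectGroup hM.2.1 p hM.2.2 B hB ⊥ hD
  rw [Subgroup.card_bot] at hc
  have hd : Cfsg.blockDefect p B = 0 := by
    by_contra h
    have : 1 < p ^ Cfsg.blockDefect p B := Nat.one_lt_pow h hp.out.one_lt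
    omega
  unfold Cfsg.blockDefect at hd
  have hle : sInf ((fun χ : Cfsg.IrrCharacter G =>
      (Cfsg.charDegree (χ : G → ℂ)).factorization p) '' B) ≤
      (Cfsg.charDegree (χ : G → ℂ)).factorization p :=
    Nat.sInf_le ⟨χ, hχ, rfl⟩
  have hge : (Nat.card G).factorization p ≤ (Cfsg.charDegree (χ : G → ℂ)).factorization p := by
    omega
  have hdvd := charDegree_dvd_card χ.2
  have hne : Cfsg.charDegree (χ : G → ℂ) ≠ 0 := by
    intro h0
    rw [h0] at hdvd
    exact Nat.card_pos.ne' (Nat.eq_zero_of_zero_dvd hdvd)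
  exact (hp.out.pow_dvd_iff_le_factorization hne).mpr hge

/-- the block of a character of defect zero has trivial defect -/
theorem blockDefect_of_defect_zero [Finite G] {p : ℕ} [hp : Fact p.Prime]
    (hM : Cfsg.IsPModular p M) (χ₀ : Cfsg.IrrCharacter G)
    (h0 : p ^ (Nat.card G).factorization p ∣ Cfsg.charDegree (χ₀ : G → ℂ)) :
    Cfsg.blockOf M (χ₀ : G → ℂ) = {χ₀} ∧ Cfsg.blockDefect p (Cfsg.blockOf M (χ₀ : G → ℂ)) = 0 := by
  have hdvd := charDegree_dvd_card χ₀.2
  have hne : Cfsg.charDegree (χ₀ : G → ℂ) ≠ 0 := by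
    intro h
    rw [h] at hdvd
    exact Nat.card_pos.ne' (Nat.eq_zero_of_zero_dvd hdvd)
  have hcard : Nat.card G ≠ 0 := Nat.card_pos.ne'
  have hfac : (Nat.card G).factorization p ≤ (Cfsg.charDegree (χ₀ : G → ℂ)).factorization p :=
    (hp.out.pow_dvd_iff_le_factorization hne).mp h0
  have hnd : ¬ p ∣ Nat.card G / Cfsg.charDegree (χ₀ : G → ℂ) := by
    intro hdiv
    obtain ⟨k, hk⟩ := hdvd
    have hk0 : k ≠ 0 := by
      rintro rfl
      rw [mul_zero] at hk
      exact hcard hk
    have hq : Nat.card G / Cfsg.charDegree (χ₀ : G → ℂ) = k := by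
      rw [hk]
      exact Nat.mul_div_cancel_left k (Nat.pos_of_ne_zero hne)
    rw [hq] at hdiv
    have h1 : 1 ≤ k.factorization p :=
      (hp.out.dvd_iff_one_le_factorization hk0).mp hdiv
    have h2 : (Nat.card G).factorization p =
        (Cfsg.charDegree (χ₀ : G → ℂ)).factorization p + k.factorization p := by
      rw [hk, Nat.factorization_mul hne hk0]
      rfl
    omega
  have hsing := blockOf_eq_singleton_of_not_dvd hM.2.1 p hp.out hM.2.2 χ₀ hnd
  refine ⟨hsing, ?_⟩
  rw [hsing]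
  unfold Cfsg.blockDefect
  rw [Set.image_singleton, csInf_singleton]
  omega

/-- **Exactly two blocks.** -/
theorem two_blocks_of_green [Finite G] {p : ℕ} [hp : Fact p.Prime]
    (hM : Cfsg.IsPModular p M) (P : Sylow p G) (hP : (P : Subgroup G) ≠ ⊥)
    (χ₀ : Cfsg.IrrCharacter G)
    (h0 : p ^ (Nat.card G).factorization p ∣ Cfsg.charDegree (χ₀ : G → ℂ))
    (huniq : ∀ χ : Cfsg.IrrCharacter G,
      p ^ (Nat.card G).factorization p ∣ Cfsg.charDegree (χ : G → ℂ) → χ = χ₀)
    (hb : ∀ g : G, g ∈ Subgroup.normalizer ((P : Subgroup G) : Set G) →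
      g ∈ Subgroup.centralizer ((P : Subgroup G) : Set G) → ¬ p ∣ orderOf g → g = 1)
    (hc : ∀ D : Subgroup G, D ≤ (P : Subgroup G) → D ≠ ⊥ → D ≠ (P : Subgroup G) →
      GreenProp (P : Subgroup G) D → False) :
    Nat.card {B : Set (Cfsg.IrrCharacter G) // Cfsg.IsPBlock M B} = 2 := by
  classical
  have hMmax := hM.2.1
  -- the block of defect zero
  obtain ⟨hsing, hdef0⟩ := blockDefect_of_defect_zero hM χ₀ h0
  have hB₁ : Cfsg.IsPBlock M (Cfsg.blockOf M (χ₀ : G → ℂ)) := ⟨χ₀, rfl⟩
  -- the block of full defect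
  have hcount := card_blocks_sylow_eq hM P
  have hone : Nat.card {C : ConjClasses (Subgroup.normalizer ((P : Subgroup G) : Set G)) //
      ∀ n : Subgroup.normalizer ((P : Subgroup G) : Set G), ConjClasses.mk n = C →
        ¬ p ∣ orderOf n ∧ (n : G) ∈ Subgroup.centralizer ((P : Subgroup G) : Set G)} = 1 := by
    rw [Nat.card_eq_one_iff_unique]
    refine ⟨⟨?_⟩, ⟨⟨ConjClasses.mk 1, ?_⟩⟩⟩
    · rintro ⟨C, hC⟩ ⟨C', hC'⟩
      rw [Subtype.mk.injEq]
      obtain ⟨n, rfl⟩ := ConjClasses.exists_rep C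
      obtain ⟨n', rfl⟩ := ConjClasses.exists_rep C'
      have h1 := hC n rfl
      have h2 := hC' n' rfl
      have e1 : (n : G) = 1 := hb n n.2 h1.2 (by rw [Subgroup.orderOf_coe]; exact h1.1)
      have e2 : (n' : G) = 1 := hb n' n'.2 h2.2 (by rw [Subgroup.orderOf_coe]; exact h2.1)
      have : n = n' := Subtype.ext (e1.trans e2.symm)
      rw [this]
    · intro n hn
      have hn1 : n = 1 := by
        have h1 : IsConj n 1 := ConjClasses.mk_eq_mk_iff_isConj.mp hn
        exact isConj_one_left.mp h1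
      subst hn1
      refine ⟨?_, ?_⟩
      · rw [orderOf_one]
        exact hp.out.not_dvd_one
      · rw [Subgroup.coe_one]
        exact one_mem _
  rw [hone] at hcount
  obtain ⟨⟨B₂, hB₂, hD₂⟩, huB₂⟩ := Nat.card_eq_one_iff_exists.mp hcount
  -- the two blocks are different
  have hne : Cfsg.blockOf M (χ₀ : G → ℂ) ≠ B₂ := by
    intro h
    have hc2 := card_defectGroup hMmax p hM.2.2 B₂ hB₂ _ hD₂
    rw [← h, hdef0, pow_zero] at hc2
    exact hP ((Subgroup.card_eq_one).mp hc2)
  -- every block is one of the two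
  have hall : ∀ B : Set (Cfsg.IrrCharacter G), Cfsg.IsPBlock M B →
      B = Cfsg.blockOf M (χ₀ : G → ℂ) ∨ B = B₂ := by
    intro B hB
    obtain ⟨D₀, hD₀⟩ := exists_isDefectGroup hMmax p B hB
    have hD₀p := IsDefectGroup.isPGroup hM B hB D₀ hD₀
    obtain ⟨Q, hQ⟩ := hD₀p.exists_le_sylow
    obtain ⟨g, hg⟩ := MulAction.exists_smul_eq G Q P
    set D : Subgroup G := D₀.map (MulAut.conj g).toMonoidHom with hDdef
    have hD : Cfsg.IsDefectGroup p M B D := isDefectGroup_conj (M := M) B D₀ hD₀ g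
    have hDP : D ≤ (P : Subgroup G) := by
      rw [← hg, Sylow.coe_subgroup_smul, Subgroup.pointwise_smul_def]
      exact Subgroup.map_mono hQ
    by_cases hbot : D = ⊥
    · left
      rw [hbot] at hD
      obtain ⟨χ, rfl⟩ := hB
      have hχ := mem_blockOf_self hMmax χ
      have := huniq χ (dvd_charDegree_of_defectGroup_bot hM _ ⟨χ, rfl⟩ hD χ hχ)
      rw [this]
    · by_cases htop : D = (P : Subgroup G)
      · right
        rw [htop] at hD
        have := huB₂ ⟨B, hB, hD⟩
        exact congrArg Subtype.val this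
      · exact (hc D hDP hbot htop (greenProp_of_isDefectGroup hM B hB D hD P)).elim
  rw [Nat.card_eq_two_iff]
  refine ⟨⟨_, hB₁⟩, ⟨B₂, hB₂⟩, ?_, ?_⟩
  · intro h
    exact hne (congrArg Subtype.val h)
  · rw [Set.eq_univ_iff_forall]
    rintro ⟨B, hB⟩
    rcases hall B hB with h | h
    · left
      exact Subtype.ext h
    · right
      exact Subtype.ext h

end Cfsg.Agent.ChevBlk
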