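import Mathlib
import Cfsg.Agent.ChevBlk.Defs
import Cfsg.Agent.Helper7.ChevMono
import Cfsg.Agent.Helper7.ChevWeyl
import Cfsg.Agent.Helper7.ChevCollect

set_option autoImplicit false
set_option linter.unusedSectionVars false
set_option linter.unusedVariables false

/-!
# S2441, Chevalley side, step A: a Green intersection is a standard subgroup

If `x` centralizes `E = U ∩ xUx⁻¹` then `E = b V_J b⁻¹` with `b ∈ B` and `V_J` generated by the root
subgroups of the positive roots supported on a set `J` of fundamental roots.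
-/

namespace Cfsg.Agent.ChevBlk

open Cfsg Cfsg.Lie Matrix Cfsg.Agent.Helper7 Cfsg.Agent.Helper7.Chev

variable {D : ChevalleyDatum} {F : Type*} [Field F]

/-- The subgroup generated by the root subgroups of the positive roots supported on `J`. -/
def VJ (D : ChevalleyDatum) (F : Type*) [Field F] (J : Set ℕ) : Subgroup (GL D.Idx F) :=
  UgeS D F (suppSet D J) (D.nroots / 2)

/-- `E` is a `B`-conjugate of a standard subgroup `V_J`. -/
def IsStd (D : ChevalleyDatum) (F : Type*) [Field F] (E : Subgroup (GL D.Idx F)) : Prop :=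
  ∃ b ∈ D.borelSubgroup F, ∃ J : Set ℕ, ClosedSet D (suppSet D J) ∧
    E = (VJ D F J).map (MulAut.conj b).toMonoidHom

theorem UgeS_congr {Ψ Ψ' : ℕ → Prop} (h : ∀ r, Ψ r ↔ Ψ' r) (k : ℕ) :
    UgeS D F Ψ k = UgeS D F Ψ' k := by
  have : Ψ = Ψ' := funext fun r => propext (h r)
  rw [this]

theorem closedSet_congr {Ψ Ψ' : ℕ → Prop} (h : ∀ r, Ψ r ↔ Ψ' r) (hc : ClosedSet D Ψ) :
    ClosedSet D Ψ' := by
  have : Ψ = Ψ' := funext fun r => propext (h r)
  rw [← this]
  exact hc

section stepA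

variable (hG : Good2 D) (hT : T0 D) (h3 : (tabOf D).T3) (h4 : (tabOf D).T4 60)
  (h8 : (tabOf D).T8) (h26 : (tabOf D).T26)
  (hInter : InterHyp hG F) (hA : LemmaAHyp D)

include hG hT h3 h4 h8 h26 hInter hA in
/-- **Step A**: a Green intersection is standard. -/
theorem isStd_of_green {E : Subgroup (GL D.Idx F)} {x : GL D.Idx F} (hx : x ∈ D.group F)
    (hcent : x ∈ Subgroup.centralizer (E : Set (GL D.Idx F)))
    (hE : D.posUnipotent F ⊓ (D.posUnipotent F).map (MulAut.conj x).toMonoidHom = E) :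
    IsStd D F E := by
  have hG1 := hG.toGood1
  obtain ⟨b, hb, w, hw, b', hb', hxe, hclosed, hint⟩ := hInter x hx
  rw [hE] at hint
  -- the word fixes pointwise the roots it keeps positive
  have hfix : ∀ r, plusSet D w r → (tabOf D).reflWord w r = r := by
    rintro r ⟨hr1, hr, hwr⟩
    by_contra hne
    have hwr' := reflWord_lt hG hw hr
    -- the generator
    have ha : xGL hG1 hr (1 : F) ∈ UgeS D F (plusSet D w) (D.nroots / 2) :=
      Subgroup.subset_closure ⟨r, 1, hr1, hr, ⟨hr1, hr, hwr⟩, xGL_coe hG1 hr 1⟩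
    have he : b * xGL hG1 hr (1 : F) * b⁻¹ ∈ E := by
      rw [hint]
      exact ⟨_, ha, rfl⟩
    have hc := (Subgroup.mem_centralizer_iff.mp hcent) _ he
    -- rewrite the centralizing relation
    have hkey : (b' * b) * xGL hG1 hr (1 : F) * (b' * b)⁻¹ =
        nWordGL hG w * xGL hG1 hr (1 : F) * (nWordGL hG w)⁻¹ := by
      have h1 : x⁻¹ * (b * xGL hG1 hr (1 : F) * b⁻¹) * x = b * xGL hG1 hr (1 : F) * b⁻¹ := by
        rw [mul_assoc, hc, ← mul_assoc, inv_mul_cancel, one_mul]
      rw [hxe] at h1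
      have h2 : (b * (nWordGL hG w)⁻¹ * b')⁻¹ * (b * xGL hG1 hr (1 : F) * b⁻¹) *
          (b * (nWordGL hG w)⁻¹ * b') =
          b'⁻¹ * (nWordGL hG w * xGL hG1 hr (1 : F) * (nWordGL hG w)⁻¹) * b' := by group
      rw [h2] at h1
      have h3' : nWordGL hG w * xGL hG1 hr (1 : F) * (nWordGL hG w)⁻¹ =
          b' * (b * xGL hG1 hr (1 : F) * b⁻¹) * b'⁻¹ := by
        rw [← h1]; group
      rw [h3']; group
    rw [nWordGL_conj hG hw hr] at hkey
    obtain ⟨χ, hχ, hlead⟩ := borel_conj_xGL hG hT h3 h4 h26 (mul_mem hb' hb) hr1 hr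
    obtain ⟨g', hg', hl⟩ := hlead 1
    rw [hkey] at hl
    have h0 := lead_ne hG hT h8 hr1 hr hwr hwr' hne (by rw [mul_one]; exact hχ) hg' hl
    rw [mul_one] at h0
    exact etaWord_cast_ne_zero hG hw hr h0
  have hiff := hA w hw hfix
  refine ⟨b, hb, plusSimple D w, closedSet_congr hiff hclosed, ?_⟩
  rw [hint]
  unfold VJ
  rw [UgeS_congr hiff]

end stepA

end Cfsg.Agent.ChevBlk
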