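import Mathlib
import Cfsg.Agent.ChevBlk.H8_Std
import Cfsg.Agent.ChevDZ.H1_Psi

set_option autoImplicit false
set_option linter.unusedSectionVars false
set_option linter.unusedVariables false

/-!
# S2441, Chevalley side, step B: the group half of Lemma B

A standard subgroup `V_J` with `J` neither empty nor full has a `G`-conjugate inside `U` that is not a
`B`-conjugate of any standard subgroup.
-/

namespace Cfsg.Agent.ChevBlk

open Cfsg Cfsg.Lie Matrix Cfsg.Agent.Helper7 Cfsg.Agent.Helper7.Chev Cfsg.Agent.ChevDZ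

variable {D : ChevalleyDatum} {F : Type*} [Field F]

section coord

variable (hG : Good2 D) (hT : T0 D)
  (hW : ∃ W : List (List ℤ), (tabOf D).T16 W ∧ h1_T17 (tabOf D) W)

include hG hT hW in
/-- A coordinate vanishing on generators inside `U` vanishes on the subgroup they generate. -/
theorem coord_closure_zero (k : Fin D.rank) {S : Set (GL D.Idx F)}
    (hS : ∀ g ∈ S, g ∈ D.posUnipotent F ∧
      h1_coord hG.toGood1 k ((g : GL D.Idx F) : Matrix D.Idx D.Idx F) = 0) :
    ∀ g ∈ Subgroup.closure S, g ∈ D.posUnipotent F ∧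
      h1_coord hG.toGood1 k ((g : GL D.Idx F) : Matrix D.Idx D.Idx F) = 0 := by
  intro g hg
  induction hg using Subgroup.closure_induction with
  | mem x hx => exact hS x hx
  | one => exact ⟨one_mem _, by rw [Units.val_one]; exact h1_coord_one hG.toGood1 k⟩
  | mul x y _ _ hx hy =>
    refine ⟨mul_mem hx.1 hy.1, ?_⟩
    rw [h1_coord_mul hG hT hW k hx.1 hy.1, hx.2, hy.2, add_zero]
  | inv x _ hx =>
    refine ⟨inv_mem hx.1, ?_⟩
    have h1 := h1_coord_mul hG hT hW k hx.1 (inv_mem hx.1)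
    rw [mul_inv_cancel, Units.val_one, h1_coord_one, hx.2, zero_add] at h1
    exact h1.symm

end coord

section stepB

variable (hG : Good2 D) (hT : T0 D) (h3 : (tabOf D).T3) (h4 : (tabOf D).T4 60)
  (h7 : (tabOf D).T7) (h8 : (tabOf D).T8) (h26 : (tabOf D).T26)
  (hW : ∃ W : List (List ℤ), (tabOf D).T16 W ∧ h1_T17 (tabOf D) W)
  (hB : LemmaBHyp D) (hAdj : AdjHyp D)

include hT in
theorem VJ_le_pos (J : Set ℕ) : VJ D F J ≤ D.posUnipotent F := by
  unfold VJ UgeS
  rw [Subgroup.closure_le]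
  rintro g ⟨r, t, hr1, hr, -, hg⟩
  rw [posUnipotent_eq]
  exact Subgroup.subset_closure ⟨r, t, (isPosRoot_iff hT hr).mpr hr1, hg⟩

include hG in
theorem simple_mem_suppSet (hT : T0 D) {J : Set ℕ} {j : ℕ} (hj : j < D.rank) (hjJ : j ∈ J) :
    suppSet D J (D.simple j) := by
  refine ⟨simple_pos hG.toGood1 hT hj, hG.toGood1.simple_lt hj, fun i hi hne => ?_⟩
  rw [hG.toGood1.cr_simple hj hi] at hne
  by_cases h : i = j
  · rw [h]; exact hjJ
  · rw [if_neg h] at hne
    exact (hne rfl).elim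

include hG hT h3 h4 h7 h8 in
/-- the order of a standard subgroup -/
theorem card_VJ [Fintype F] {J : Set ℕ} (hJc : ClosedSet D (suppSet D J)) :
    ∃ S : Finset ℕ, (∀ r, r ∈ S ↔ suppSet D J r) ∧
      Nat.card (VJ D F J) = Fintype.card F ^ S.card := by
  classical
  refine ⟨(Finset.range D.nroots).filter (fun r => suppSet D J r), ?_, ?_⟩
  · intro r
    rw [Finset.mem_filter, Finset.mem_range]
    exact ⟨fun h => h.2, fun h => ⟨h.2.1, h⟩⟩
  · apply card_UgeS hG hT h3 h4 h7 h8 hJc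
    intro r
    rw [Finset.mem_filter, Finset.mem_range]
    exact ⟨fun h => ⟨h.2.1, h.1, h.2⟩, fun h => ⟨h.2.1, h.2.2⟩⟩

include hG hT h3 h4 h7 h8 h26 hW hB hAdj in
/-- **Step B**: a standard subgroup `V_J`, `J` neither empty nor full, has a conjugate in `U` that is
not standard. -/
theorem lemmaB_group [Fintype F] {J : Set ℕ} (hJc : ClosedSet D (suppSet D J))
    (hj : ∃ j < D.rank, j ∈ J) (hi : ∃ i < D.rank, i ∉ J)
    (hall : ∀ g ∈ D.group F, (VJ D F J).map (MulAut.conj g).toMonoidHom ≤ D.posUnipotent F →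
      IsStd D F ((VJ D F J).map (MulAut.conj g).toMonoidHom)) : False := by
  classical
  have hG1 := hG.toGood1
  obtain ⟨i, hir, hiJ, j, hjr, hjJ, hadj⟩ := hAdj J hj hi
  set g : GL D.Idx F := nWordGL hG [i] with hgdef
  have hwi : ∀ a ∈ [i], a < D.rank := by
    intro a ha
    rw [List.mem_singleton] at ha
    rw [ha]; exact hir
  have hgG : g ∈ D.group F := monomialSubgroup_le_group hG1 (nWordGL_mem hG [i])
  have hrefl : ∀ r, (tabOf D).reflWord [i] r = (tabOf D).refl (D.simple i) r := fun r => rfl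
  -- conjugates of the generators
  have hgen : ∀ r (hr : r < D.nroots) (t : F), suppSet D J r →
      ∃ (hr' : (tabOf D).refl (D.simple i) r < D.nroots) (t' : F),
        D.nroots / 2 ≤ (tabOf D).refl (D.simple i) r ∧
        g * xGL hG1 hr t * g⁻¹ = xGL hG1 hr' t' := by
    intro r hr t hs
    have hc := nWordGL_conj (F := F) hG hwi hr t
    exact ⟨reflWord_lt hG hwi hr, _, (hB J i 0 hir hiJ (Nat.pos_of_ne_zero (by
      intro h0; rw [h0] at hir; exact absurd hir (Nat.not_lt_zero _))) r hs).1, hc⟩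
  -- the conjugate lies in `U`
  have hmap : (VJ D F J).map (MulAut.conj g).toMonoidHom =
      Subgroup.closure ((MulAut.conj g).toMonoidHom '' geGenS D F (suppSet D J) (D.nroots / 2)) := by
    unfold VJ UgeS
    rw [MonoidHom.map_closure]
  have hle : (VJ D F J).map (MulAut.conj g).toMonoidHom ≤ D.posUnipotent F := by
    rw [hmap, Subgroup.closure_le]
    rintro _ ⟨x, ⟨r, t, hr1, hr, hs, hx⟩, rfl⟩
    rw [eq_xGL hG1 hr hx]
    obtain ⟨hr', t', hpos, e⟩ := hgen r hr t hs
    change g * xGL hG1 hr t * g⁻¹ ∈ D.posUnipotent F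
    rw [e]
    exact h1_xGL_mem_pos hG1 hT hr' hpos t'
  obtain ⟨b₂, hb₂, J₂, hJ₂c, hstd⟩ := hall g hgG hle
  -- the fundamental roots of `J₂`
  have hJ₂ : ∀ k < D.rank, k ∈ J₂ → k ∈ J ∧ D.cartan i (D.simple k) = 0 := by
    intro k hk hkJ₂
    by_contra hcon
    have hsk := hG1.simple_lt hk
    have hsk1 := simple_pos hG1 hT hk
    -- the generator of `V_{J₂}`
    have ha : xGL hG1 hsk (1 : F) ∈ VJ D F J₂ :=
      Subgroup.subset_closure ⟨D.simple k, 1, hsk1, hsk, simple_mem_suppSet hG hT hk hkJ₂,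
        xGL_coe hG1 hsk 1⟩
    have hmem : b₂ * xGL hG1 hsk (1 : F) * b₂⁻¹ ∈
        (VJ D F J).map (MulAut.conj g).toMonoidHom := by
      rw [hstd]
      exact ⟨_, ha, rfl⟩
    -- its coordinate vanishes
    have hzero := coord_closure_zero (F := F) hG hT hW ⟨k, hk⟩
      (S := (MulAut.conj g).toMonoidHom '' geGenS D F (suppSet D J) (D.nroots / 2)) (by
        rintro _ ⟨x, ⟨r, t, hr1, hr, hs, hx⟩, rfl⟩
        rw [eq_xGL hG1 hr hx]
        obtain ⟨hr', t', hpos, e⟩ := hgen r hr t hs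
        change g * xGL hG1 hr t * g⁻¹ ∈ D.posUnipotent F ∧
          h1_coord hG1 ⟨k, hk⟩ ((g * xGL hG1 hr t * g⁻¹ : GL D.Idx F) : Matrix D.Idx D.Idx F) = 0
        rw [e]
        refine ⟨h1_xGL_mem_pos hG1 hT hr' hpos t', ?_⟩
        rw [xGL_coe, h1_coord_x hG1 hT ⟨k, hk⟩ hr' hpos, if_neg]
        intro heq
        exact hcon ((hB J i k hir hiJ hk r hs).2 heq)) _ (hmap ▸ hmem)
    -- but it is the leading coefficient
    obtain ⟨χ, hχ, hlead⟩ := borel_conj_xGL hG hT h3 h4 h26 hb₂ hsk1 hsk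
    obtain ⟨g', hg', hl⟩ := hlead 1
    have hg'U : g' ∈ D.posUnipotent F := by
      rw [posUnipotent_eq_Uge hT]
      exact Uge_anti (by omega) hg'
    have hg'0 : h1_coord hG1 ⟨k, hk⟩ ((g' : GL D.Idx F) : Matrix D.Idx D.Idx F) = 0 := by
      have := coord_closure_zero (F := F) hG hT hW ⟨k, hk⟩ (S := geGen D F (D.simple k + 1)) (by
        rintro x ⟨r, t, hr1, hr, hx⟩
        rw [eq_xGL hG1 hr hx]
        have hpos : D.nroots / 2 ≤ r := by omega
        refine ⟨h1_xGL_mem_pos hG1 hT hr hpos t, ?_⟩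
        rw [xGL_coe, h1_coord_x hG1 hT ⟨k, hk⟩ hr hpos, if_neg]
        intro h
        change r = D.simple k at h
        omega) g' hg'
      exact this.2
    have h2 := hzero.2
    rw [hl, h1_coord_mul hG hT hW ⟨k, hk⟩ (h1_xGL_mem_pos hG1 hT hsk hsk1 _) hg'U, hg'0, add_zero,
      xGL_coe, h1_coord_x hG1 hT ⟨k, hk⟩ hsk hsk1, if_pos rfl, mul_one] at h2
    exact hχ h2
  -- comparison of the orders
  obtain ⟨S, hS, hcS⟩ := card_VJ (F := F) hG hT h3 h4 h7 h8 hJc
  obtain ⟨S₂, hS₂, hcS₂⟩ := card_VJ (F := F) hG hT h3 h4 h7 h8 hJ₂c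
  have hinj : Function.Injective (MulAut.conj g).toMonoidHom := (MulAut.conj g).injective
  have hinj₂ : Function.Injective (MulAut.conj b₂).toMonoidHom := (MulAut.conj b₂).injective
  have hc1 : Nat.card ((VJ D F J).map (MulAut.conj g).toMonoidHom) = Nat.card (VJ D F J) :=
    Subgroup.card_map_of_injective hinj
  have hc2 : Nat.card ((VJ D F J₂).map (MulAut.conj b₂).toMonoidHom) = Nat.card (VJ D F J₂) :=
    Subgroup.card_map_of_injective hinj₂
  rw [hstd, hc2, hcS₂, hcS] at hc1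
  have hcard : S₂.card = S.card :=
    Nat.pow_right_injective (Fintype.one_lt_card : 1 < Fintype.card F) hc1
  have hsub : S₂ ⊆ S := by
    intro r hr
    rw [hS₂] at hr
    rw [hS]
    exact ⟨hr.1, hr.2.1, fun a ha hne => (hJ₂ a ha (hr.2.2 a ha hne)).1⟩
  have heq : S₂ = S := Finset.eq_of_subset_of_card_le hsub (le_of_eq hcard.symm)
  have hjS : D.simple j ∈ S := (hS _).mpr (simple_mem_suppSet hG hT hjr hjJ)
  rw [← heq, hS₂] at hjS
  have hjJ₂ : j ∈ J₂ := by
    apply hjS.2.2 j hjr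
    rw [hG1.cr_simple hjr hjr, if_pos rfl]
    exact one_ne_zero
  exact hadj (hJ₂ j hjr hjJ₂).2

end stepB

end Cfsg.Agent.ChevBlk
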