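import Mathlib
import Cfsg.Agent.ChevBlk.H8_LemB
import Cfsg.Agent.Helper7.ChevParab
import Cfsg.Agent.Helper7.ChevBorel

set_option autoImplicit false
set_option linter.unusedSectionVars false
set_option linter.unusedVariables false

/-!
# S2441, Chevalley side: no proper nontrivial subgroup of `U` has the Green property
-/

namespace Cfsg.Agent.ChevBlk

open Cfsg Cfsg.Lie Matrix Cfsg.Agent.Helper7 Cfsg.Agent.Helper7.Chev Cfsg.Agent.ChevDZ

variable {D : ChevalleyDatum} {F : Type*} [Field F]

theorem map_conj_map_conj {G : Type*} [Group G] (E : Subgroup G) (a b : G) :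
    (E.map (MulAut.conj a).toMonoidHom).map (MulAut.conj b).toMonoidHom =
      E.map (MulAut.conj (b * a)).toMonoidHom := by
  rw [Subgroup.map_map]
  congr 1
  ext x
  simp [MulAut.conj_apply, mul_assoc]

theorem map_conj_one {G : Type*} [Group G] (E : Subgroup G) :
    E.map (MulAut.conj (1 : G)).toMonoidHom = E := by
  ext x
  simp

theorem map_conj_eq_of_mem_normalizer {G : Type*} [Group G] {E : Subgroup G} {b : G}
    (hb : b ∈ Subgroup.normalizer (E : Set G)) : E.map (MulAut.conj b).toMonoidHom = E := by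
  ext y
  constructor
  · rintro ⟨u, hu, rfl⟩
    exact (Subgroup.mem_normalizer_iff.mp hb u).mp hu
  · intro hy
    refine ⟨b⁻¹ * y * b, ?_, ?_⟩
    · have := (Subgroup.mem_normalizer_iff.mp (inv_mem hb) y).mp hy
      rwa [inv_inv] at this
    · simp [MulAut.conj_apply, mul_assoc]

section main

variable (hG : Good2 D) (hT : T0 D) (h3 : (tabOf D).T3) (h4 : (tabOf D).T4 60)
  (h7 : (tabOf D).T7) (h8 : (tabOf D).T8) (h9 : (tabOf D).T9) (h26 : (tabOf D).T26)
  (hW : ∃ W : List (List ℤ), (tabOf D).T16 W ∧ h1_T17 (tabOf D) W)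
  (hInter : InterHyp hG F) (hA : LemmaAHyp D) (hB : LemmaBHyp D) (hAdj : AdjHyp D)

include hG hT h9 in
/-- a positive root has a nonzero coroot coordinate -/
theorem exists_cr_ne_zero {r : ℕ} (hr1 : D.nroots / 2 ≤ r) (hr : r < D.nroots) :
    ∃ i < D.rank, cr D r i ≠ 0 := by
  rcases h9 r hr hr1 with ⟨i, hi, hs⟩ | ⟨i, hi, hne, -, -⟩
  · refine ⟨i, hi, ?_⟩
    have h1 : cr D (D.simple i) i = if i = i then 1 else 0 := hG.toGood1.cr_simple hi hi
    rw [if_pos rfl] at h1
    have hs' : D.simple i = r := hs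
    rw [← hs', h1]
    exact one_ne_zero
  · exact ⟨i, hi, hne⟩

include hG hT h3 h4 h7 h8 h9 h26 hW hInter hA hB hAdj in
/-- **No Green subgroups**: a subgroup `1 ≠ E < U` all of whose `G`-conjugates inside `U` are Green
intersections does not exist. -/
theorem chev_no_green [Fintype F] {E : Subgroup (GL D.Idx F)} (hEU : E ≤ D.posUnipotent F)
    (hbot : E ≠ ⊥) (htop : E ≠ D.posUnipotent F)
    (hgreen : ∀ g ∈ D.group F, E.map (MulAut.conj g).toMonoidHom ≤ D.posUnipotent F →
      ∃ x ∈ D.group F,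
        x ∈ Subgroup.centralizer ((E.map (MulAut.conj g).toMonoidHom : Subgroup (GL D.Idx F)) :
          Set (GL D.Idx F)) ∧
        D.posUnipotent F ⊓ (D.posUnipotent F).map (MulAut.conj x).toMonoidHom =
          E.map (MulAut.conj g).toMonoidHom) : False := by
  have hG1 := hG.toGood1
  have hBG : D.borelSubgroup F ≤ D.group F := borelSubgroup_le_group hG1
  -- every conjugate inside `U` is standard
  have hstd : ∀ g ∈ D.group F, E.map (MulAut.conj g).toMonoidHom ≤ D.posUnipotent F →
      IsStd D F (E.map (MulAut.conj g).toMonoidHom) := by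
    intro g hg hle
    obtain ⟨x, hx, hc, he⟩ := hgreen g hg hle
    exact isStd_of_green hG hT h3 h4 h8 h26 hInter hA hx hc he
  have h1 := hstd 1 (one_mem _) (by rw [map_conj_one]; exact hEU)
  rw [map_conj_one] at h1
  obtain ⟨b, hb, J, hJc, hE⟩ := h1
  have hbG := hBG hb
  -- the conjugates of `V_J` inside `U` are standard
  have hall : ∀ g ∈ D.group F, (VJ D F J).map (MulAut.conj g).toMonoidHom ≤ D.posUnipotent F →
      IsStd D F ((VJ D F J).map (MulAut.conj g).toMonoidHom) := by
    intro g hg hle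
    have e : (VJ D F J).map (MulAut.conj g).toMonoidHom =
        E.map (MulAut.conj (g * b⁻¹)).toMonoidHom := by
      rw [hE, map_conj_map_conj, mul_assoc, inv_mul_cancel, mul_one]
    rw [e] at hle ⊢
    exact hstd _ (mul_mem hg (inv_mem hbG)) hle
  by_cases hj : ∃ j < D.rank, j ∈ J
  · by_cases hi : ∃ i < D.rank, i ∉ J
    · exact lemmaB_group hG hT h3 h4 h7 h8 h26 hW hB hAdj hJc hj hi hall
    · -- `J` is full: `V_J = U`
      apply htop
      have hVU : VJ D F J = D.posUnipotent F := by
        rw [posUnipotent_eq_Uge hT]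
        unfold VJ UgeS Uge
        congr 1
        ext g
        constructor
        · rintro ⟨r, t, h1, h2, -, hg⟩
          exact ⟨r, t, h1, h2, hg⟩
        · rintro ⟨r, t, h1, h2, hg⟩
          refine ⟨r, t, h1, h2, ⟨h1, h2, fun a ha _ => ?_⟩, hg⟩
          by_contra haJ
          exact hi ⟨a, ha, haJ⟩
      rw [hE, hVU]
      apply map_conj_eq_of_mem_normalizer
      have hBN : D.borelSubgroup F ≤
          Subgroup.normalizer (D.posUnipotent F : Set (GL D.Idx F)) :=
        sup_le Subgroup.le_normalizer (diagonalSubgroup_le_normalizer_pos hG)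
      exact hBN hb
  · -- `J` is empty: `V_J = 1`
    apply hbot
    have hV : VJ D F J = ⊥ := by
      unfold VJ UgeS
      rw [Subgroup.closure_eq_bot_iff]
      rintro g ⟨r, t, h1, h2, hs, -⟩
      exfalso
      obtain ⟨a, ha, hne⟩ := exists_cr_ne_zero hG hT h9 h1 h2
      exact hj ⟨a, ha, hs.2.2 a ha hne⟩
    rw [hE, hV, Subgroup.map_bot]

end main

end Cfsg.Agent.ChevBlk
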