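import Mathlib
import Cfsg.Agent.ChevBlk.H8_Abs
import Cfsg.Agent.ChevBlk.H8_NoGreen
import Cfsg.Agent.ChevDZ.H8_Main
import Cfsg.Agent.ChevDZ.H1_UH
import Cfsg.Agent.ChevDZ.H1_Gen
import Cfsg.Agent.ChevDZ.H1_D5
import Cfsg.Agent.ChevDZ.H6_Cells
import Cfsg.Agent.ChevDZ.L_PalW
import Cfsg.Agent.ChevDZ.L_St
import Cfsg.Agent.ChevDZ.L_StVan
import Cfsg.Agent.ChevUni.H1_Split
import Cfsg.Agent.Helper7.ChevInvA
import Cfsg.Agent.Helper7.ChevSylow
import Cfsg.Agent.Helper7.ChevCharPC
import Cfsg.Agent.Helper7.ChevNorm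
import Cfsg.Agent.Helper6.BlockPart

set_option autoImplicit false
set_option linter.unusedSectionVars false
set_option linter.unusedVariables false

/-!
# S2441: a Chevalley group of type G₂, B₂, D₄, F₄, E₆, E₇, E₈ in its defining characteristic has
exactly two blocks (given the interfaces `InterHyp`, `LemmaAHyp`, `LemmaBHyp`, `AdjHyp`).
-/

namespace Cfsg.Agent.ChevBlk

open Cfsg Cfsg.Lie Matrix Cfsg.Agent.Helper7 Cfsg.Agent.Helper7.Chev Cfsg.Agent.ChevDZ
  Cfsg.Agent.Helper6

/-- The Steinberg character is the only irreducible character of defect zero (S2318 without the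
restriction on the field). -/
theorem dz_unique {F : Type*} [Field F] [Fintype F] (p : ℕ) [Fact p.Prime] [CharP F p]
    (D : ChevalleyDatum) (hD : D ∈ [chevG2, chevB2, chevD4, chevF4, chevE6, chevE7, chevE8])
    (χ : ↥(D.group F) → ℂ) (hχ : Cfsg.IsIrrCharacter ↥(D.group F) χ)
    (hdeg : ∃ d : ℕ, χ 1 = (d : ℂ) ∧ p ^ (Nat.card ↥(D.group F)).factorization p ∣ d) :
    χ = D.steinbergCharacter F := by
  classical
  have hG3 := Cfsg.Agent.Helper7.Chev.good3_of_mem D hD
  have hG := hG3.toGood2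
  have hT := Cfsg.Agent.Helper7.Chev.T0_of_mem D hD
  have h3 := hG3.t3
  have h4 := hG3.t4
  have h5 := Cfsg.Agent.Helper7.Chev.T5_of_mem D hD
  have h6 := Cfsg.Agent.Helper7.Chev.T6_of_mem D hD
  have h7 := Cfsg.Agent.Helper7.Chev.T7_of_mem D hD
  have h7n := Cfsg.Agent.ChevUni.h1_T7n_of_mem D hD
  have h8 := Cfsg.Agent.Helper7.Chev.T8_of_mem D hD
  have h9 := Cfsg.Agent.Helper7.Chev.T9_of_mem D hD
  obtain ⟨W, hW⟩ := Cfsg.Agent.Helper7.Chev.exists_wList hG hT h6 h8
  have hpal := Cfsg.Agent.ChevDZ.l_hpal_of_mem D hD hW (Fintype.card F)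
  have : Fintype ↥(D.group F) := Fintype.ofFinite _
  exact Cfsg.Agent.ChevDZ.dz_main (F := F) (h1_B D F) (h1_U D F) (h1_H D F) h1_hUB h1_hHB
    (h1_hUn hG) (h1_hBUH hG) (h1_hUH hG hT) D.rank (h1_iota hG F) (h1_hx hG hT)
    (h1_hnorm hG hT h3 h4 h5 h6) (h1_hgen hG) W (fun w hw => (hW.ok w hw).1)
    (h6_hcover hG hT h3 h4 h5 h6 h8 h9 hW)
    (fun w hw w' hw' g => h6_hdisj hG hT h3 h4 h5 h6 h8 h9 hW hw hw' g) hW.nodup
    (fun w hw => h6_hcard hG hT h3 h4 h5 h6 h7 h7n h8 h9 hW hw)
    (fun i hi => h6_hW1 hG hT h6 hW hi) (h1_hpeel hG hT h3 h4 h5 h6 hW) (D.nroots / 2)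
    (h1_hUN hG hT h3 h4 h7 h8) hpal.1 hpal.2 χ (D.steinbergCharacter F) hχ (l_st_irr D hD)
    (l_vanish_U p D hD χ hχ hdeg) (l_st_vanish_U p D hD)

section transport

variable {Γ : Type*} [Group Γ]

theorem map_conj_map_subtype (K : Subgroup Γ) (E : Subgroup ↥K) (g : ↥K) :
    (E.map (MulAut.conj g).toMonoidHom).map K.subtype =
      (E.map K.subtype).map (MulAut.conj (g : Γ)).toMonoidHom := by
  rw [Subgroup.map_map, Subgroup.map_map]
  congr 1

theorem map_subtype_subgroupOf_of_le {U K : Subgroup Γ} (h : U ≤ K) :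
    (U.subgroupOf K).map K.subtype = U := by
  rw [Subgroup.subgroupOf_map_subtype]
  exact inf_eq_left.mpr h

theorem le_subgroupOf_iff_map_le {U K : Subgroup Γ} (E : Subgroup ↥K) :
    E ≤ U.subgroupOf K ↔ E.map K.subtype ≤ U := by
  rw [Subgroup.map_le_iff_le_comap]
  rfl

end transport

variable {D : ChevalleyDatum} {F : Type*} [Field F]

section noGreen

variable (hG : Good2 D) (hT : T0 D) (h3 : (tabOf D).T3) (h4 : (tabOf D).T4 60)
  (h7 : (tabOf D).T7) (h8 : (tabOf D).T8) (h9 : (tabOf D).T9) (h26 : (tabOf D).T26)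
  (hW : ∃ W : List (List ℤ), (tabOf D).T16 W ∧ h1_T17 (tabOf D) W)
  (hInter : InterHyp hG F) (hA : LemmaAHyp D) (hB : LemmaBHyp D) (hAdj : AdjHyp D)

include hG hT h3 h4 h7 h8 h9 h26 hW hInter hA hB hAdj in
/-- hypothesis (c) of `two_blocks_of_green` for the Chevalley group -/
theorem chev_no_greenProp [Fintype F]
    (E : Subgroup ↥(D.group F)) (hEP : E ≤ (D.posUnipotent F).subgroupOf (D.group F))
    (hbot : E ≠ ⊥) (htop : E ≠ (D.posUnipotent F).subgroupOf (D.group F))
    (hgp : GreenProp ((D.posUnipotent F).subgroupOf (D.group F)) E) : False := by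
  have hUG : D.posUnipotent F ≤ D.group F := posUnipotent_le_group
  have hinj : Function.Injective (D.group F).subtype := Subgroup.subtype_injective _
  apply chev_no_green hG hT h3 h4 h7 h8 h9 h26 hW hInter hA hB hAdj
    (E := E.map (D.group F).subtype)
  · exact (le_subgroupOf_iff_map_le E).mp hEP
  · intro h
    apply hbot
    rw [← Subgroup.map_bot (D.group F).subtype] at h
    exact Subgroup.map_injective hinj h
  · intro h
    apply htop
    apply Subgroup.map_injective hinj
    rw [h, map_subtype_subgroupOf_of_le hUG]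
  · intro g hg hle
    rw [← map_conj_map_subtype (D.group F) E ⟨g, hg⟩] at hle
    obtain ⟨x, hxc, hxe⟩ := hgp ⟨g, hg⟩ ((le_subgroupOf_iff_map_le _).mpr hle)
    refine ⟨(x : GL D.Idx F), x.2, ?_, ?_⟩
    · rw [← map_conj_map_subtype (D.group F) E ⟨g, hg⟩, Subgroup.mem_centralizer_iff]
      rintro _ ⟨d, hd, rfl⟩
      have := (Subgroup.mem_centralizer_iff.mp hxc) d hd
      have h2 := congrArg (fun z : ↥(D.group F) => (z : GL D.Idx F)) this
      exact h2
    · have := congrArg (fun S : Subgroup ↥(D.group F) => S.map (D.group F).subtype) hxe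
      rw [Subgroup.map_inf _ _ _ hinj, map_conj_map_subtype, map_subtype_subgroupOf_of_le hUG,
        map_conj_map_subtype] at this
      exact this

end noGreen

/-- the radical of the empty set of fundamental roots is `U` -/
theorem unipotentRadical_empty (hG : Good2 D) (hT : T0 D) (h9 : (tabOf D).T9) :
    D.unipotentRadical F ∅ = D.posUnipotent F := by
  unfold ChevalleyDatum.unipotentRadical ChevalleyDatum.posUnipotent
  congr 1
  ext g
  constructor
  · rintro ⟨r, t, hr, -, hg⟩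
    exact ⟨r, t, hr, hg⟩
  · rintro ⟨r, t, hr, hg⟩
    refine ⟨r, t, hr, ?_, hg⟩
    rintro ⟨hrn, hzero⟩
    obtain ⟨i, hi, hne⟩ := exists_cr_ne_zero hG hT h9 ((isPosRoot_iff hT hrn).mp hr) hrn
    exact hne (hzero i hi (Set.notMem_empty i))

/-- the parabolic subgroup of the empty set of fundamental roots is `B` -/
theorem parabolicSubgroup_empty : D.parabolicSubgroup F ∅ = D.borelSubgroup F := by
  unfold ChevalleyDatum.parabolicSubgroup
  have : {g : GL D.Idx F | ∃ j ∈ (∅ : Set ℕ), j < D.rank ∧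
      (g : Matrix D.Idx D.Idx F) = D.nMat F (D.simple j) 1} = ∅ := by
    ext g
    simp
  rw [this, Subgroup.closure_empty, sup_bot_eq]

/-- **Two blocks**, given the four interfaces. -/
theorem chev_two_blocks {F : Type*} [Field F] [Fintype F] (p : ℕ) [Fact p.Prime] [CharP F p]
    (D : ChevalleyDatum) (hD : D ∈ [chevG2, chevB2, chevD4, chevF4, chevE6, chevE7, chevE8])
    (hInter : InterHyp (good3_of_mem D hD).toGood2 F) (hA : LemmaAHyp D) (hB : LemmaBHyp D)
    (hAdj : AdjHyp D) (M : Ideal Cfsg.AlgInt) (hM : Cfsg.IsPModular p M) :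
    Nat.card {B : Set (Cfsg.IrrCharacter ↥(D.group F)) // Cfsg.IsPBlock M B} = 2 := by
  classical
  have hG3 := good3_of_mem D hD
  have hG := hG3.toGood2
  have hG1 := hG.toGood1
  have hT := T0_of_mem D hD
  have h3 := hG3.t3
  have h4 := hG3.t4
  have h5 := T5_of_mem D hD
  have h6 := T6_of_mem D hD
  have h7 := T7_of_mem D hD
  have h7n := Cfsg.Agent.ChevUni.h1_T7n_of_mem D hD
  have h8 := T8_of_mem D hD
  have h9 := T9_of_mem D hD
  have h14 := T14_of_mem D hD
  have h26 := T26_of_mem D hD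
  have h27 := T27_of_mem D hD
  have h28 := T28_of_mem D hD
  have hW := h1_T17_of_mem D hD
  obtain ⟨R, P', Q, P'', Q', d, h17⟩ := exists_T17 D hD
  have hp : p.Prime := Fact.out
  obtain ⟨P, hP⟩ := exists_sylow_posUnipotent (F := F) hG hT h3 h4 h5 h6 h7 h7n h8 h9 p
  have hUG : D.posUnipotent F ≤ D.group F := posUnipotent_le_group
  have hcardU := card_posUnipotent (F := F) hG hT h3 h4 h7 h8
  have hUp : IsPGroup p ↥(D.posUnipotent F) := by
    obtain ⟨k, _, hq⟩ := FiniteField.card F p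
    apply IsPGroup.of_card (n := (k : ℕ) * (D.nroots / 2))
    rw [hcardU, hq, pow_mul]
  -- the rank is positive
  have hpos : 0 < D.rank ∧ 0 < D.nroots / 2 :=
    chev_cases (p := fun D => 0 < D.rank ∧ 0 < D.nroots / 2) D hD (by decide) (by decide) (by decide)
      (by decide) (by decide) (by decide) (by decide)
  have hq1 : 1 < Fintype.card F := Fintype.one_lt_card
  -- (a) the Steinberg character
  obtain ⟨d, hd1, hd2⟩ := l_st_deg (F := F) (D := D) p hD
  have hdeg0 : Cfsg.charDegree (D.steinbergCharacter F) = d := by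
    unfold Cfsg.charDegree
    rw [hd1]
    simp
  refine two_blocks_of_green hM P ?_ ⟨D.steinbergCharacter F, l_st_irr D hD⟩ ?_ ?_ ?_ ?_
  · -- `U ≠ 1`
    rw [hP]
    intro h
    have hc : Nat.card ((D.posUnipotent F).subgroupOf (D.group F)) = 1 := by
      rw [h]; exact Subgroup.card_bot
    rw [Nat.card_congr (Subgroup.subgroupOfEquivOfLe hUG).toEquiv, hcardU] at hc
    have : 1 < Fintype.card F ^ (D.nroots / 2) := Nat.one_lt_pow (by omega) hq1
    omega
  · change p ^ _ ∣ Cfsg.charDegree (D.steinbergCharacter F)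
    rw [hdeg0]
    exact hd2
  · intro χ hχ
    apply Subtype.ext
    exact dz_unique p D hD χ χ.2 ⟨Cfsg.charDegree (χ : ↥(D.group F) → ℂ),
      (charDegree_cast_of_isCharacter (IsIrrCharacter.isCharacter χ.2)).symm, hχ⟩
  · -- (b)
    intro g hgN hgC hreg
    rw [hP] at hgN hgC
    have hgnorm : (g : GL D.Idx F) ∈
        Subgroup.normalizer (D.posUnipotent F : Set (GL D.Idx F)) := by
      rw [Subgroup.mem_normalizer_iff]
      intro x
      have hN := Subgroup.mem_normalizer_iff.mp hgN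
      constructor
      · intro hx
        have := (hN ⟨x, hUG hx⟩).mp (Subgroup.mem_subgroupOf.mpr hx)
        exact Subgroup.mem_subgroupOf.mp this
      · intro hx
        have hxG : x ∈ D.group F := by
          have h1 : (g : GL D.Idx F)⁻¹ * ((g : GL D.Idx F) * x * (g : GL D.Idx F)⁻¹) *
              (g : GL D.Idx F) ∈ D.group F :=
            mul_mem (mul_mem (inv_mem g.2) (hUG hx)) g.2
          have e : (g : GL D.Idx F)⁻¹ * ((g : GL D.Idx F) * x * (g : GL D.Idx F)⁻¹) *
              (g : GL D.Idx F) = x := by group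
          rwa [e] at h1
        have := (hN ⟨x, hxG⟩).mpr (Subgroup.mem_subgroupOf.mpr hx)
        exact Subgroup.mem_subgroupOf.mp this
    have hgcent : (g : GL D.Idx F) ∈
        Subgroup.centralizer (D.posUnipotent F : Set (GL D.Idx F)) := by
      rw [Subgroup.mem_centralizer_iff]
      intro x hx
      have := (Subgroup.mem_centralizer_iff.mp hgC) ⟨x, hUG hx⟩ (Subgroup.mem_subgroupOf.mpr hx)
      exact congrArg (fun z : ↥(D.group F) => (z : GL D.Idx F)) this
    have hgB : (g : GL D.Idx F) ∈ D.parabolicSubgroup F ∅ := by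
      rw [← normalizer_rad_inf_group hG hT h3 h4 h5 h6 h8 h9 h14 ∅,
        unipotentRadical_empty hG hT h9]
      exact ⟨hgnorm, g.2⟩
    have hgU : (g : GL D.Idx F) ∈ D.posUnipotent F := by
      apply parabolic_inf_centralizer_rad_le hG hT h3 h4 h5 h6 h8 h9 h14 h26 h27 h28 h17 ∅
        hpos.1 (Set.notMem_empty 0)
      refine ⟨hgB, ?_⟩
      rw [unipotentRadical_empty hG hT h9]
      exact hgcent
    obtain ⟨k, hk⟩ := hUp ⟨(g : GL D.Idx F), hgU⟩
    have hk' : g ^ p ^ k = 1 := by
      have := congrArg (fun z : ↥(D.posUnipotent F) => (z : GL D.Idx F)) hk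
      apply Subtype.ext
      simpa using this
    have hdvd : orderOf g ∣ p ^ k := orderOf_dvd_of_pow_eq_one hk'
    obtain ⟨m, -, hm⟩ := (Nat.dvd_prime_pow hp).mp hdvd
    cases m with
    | zero =>
      rw [pow_zero] at hm
      exact orderOf_eq_one_iff.mp hm
    | succ m =>
      exfalso
      apply hreg
      rw [hm]
      exact dvd_pow_self p (Nat.succ_ne_zero m)
  · -- (c)
    intro E hE hbot htop hgp
    rw [hP] at hE htop hgp
    exact chev_no_greenProp hG hT h3 h4 h7 h8 h9 h26 hW hInter hA hB hAdj E hE hbot htop hgp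

end Cfsg.Agent.ChevBlk
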